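import Mathlib
import Cfsg.Agent.ShultGross.Module

/-!
Fixed points in the subgroup of commutators with a coprime automorphism of prime order: set-up.
-/

set_option autoImplicit false
set_option linter.style.haveILetI false
set_option linter.unusedSectionVars false
set_option linter.unusedVariables false

namespace CfsgLib.FixedTwist

universe u

variable {H : Type u} [Group H]

/-- The fixed points. -/
abbrev fix (σ : MulAut H) : Subgroup H := (σ : H →* H).eqLocus (MonoidHom.id H)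

theorem mem_fix {σ : MulAut H} {c : H} : c ∈ fix σ ↔ σ c = c := Iff.rfl

/-- The subgroup `[h, ⟨σ⟩]`. -/
def gen (σ : MulAut H) (h : H) : Subgroup H :=
  Subgroup.closure {c : H | ∃ i : ℕ, c = h⁻¹ * (σ ^ i) h}

/-- The subgroup `[L, σ]`. -/
def tw (σ : MulAut H) (L : Subgroup H) : Subgroup H :=
  Subgroup.closure {y : H | ∃ l ∈ L, y = l⁻¹ * σ l}

/-- The subgroup generated by the fixed points in the subgroups `[h, ⟨σ⟩]`. -/
def core (σ : MulAut H) : Subgroup H := ⨆ h : H, gen σ h ⊓ fix σ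

/-- `L` is invariant. -/
def Inv (σ : MulAut H) (L : Subgroup H) : Prop := ∀ x ∈ L, σ x ∈ L

variable {σ : MulAut H}

theorem pow_mem_inv {L : Subgroup H} (hL : Inv σ L) (i : ℕ) {x : H} (hx : x ∈ L) :
    (σ ^ i) x ∈ L := by
  induction i with
  | zero => simpa using hx
  | succ i ih => rw [pow_succ', MulAut.mul_apply]; exact hL _ ih

theorem inv_closure {s : Set H} (hs : ∀ x ∈ s, σ x ∈ Subgroup.closure s) :
    Inv σ (Subgroup.closure s) := fun x hx =>
  (show Subgroup.closure s ≤ (Subgroup.closure s).comap (σ : H →* H) from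
    (Subgroup.closure_le _).2 hs) hx

theorem pow_succ_twist (σ : MulAut H) (h : H) (i : ℕ) :
    σ (h⁻¹ * (σ ^ i) h) = (h⁻¹ * (σ ^ 1) h)⁻¹ * (h⁻¹ * (σ ^ (i + 1)) h) := by
  rw [map_mul, map_inv, pow_one, ← MulAut.mul_apply _ σ (σ ^ i) h, ← pow_succ']
  group

theorem mem_gen (σ : MulAut H) (h : H) (i : ℕ) : h⁻¹ * (σ ^ i) h ∈ gen σ h :=
  Subgroup.subset_closure ⟨i, rfl⟩

theorem gen_inv (h : H) : Inv σ (gen σ h) := inv_closure fun x ⟨i, hi⟩ => by
  rw [hi, pow_succ_twist]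
  exact mul_mem (inv_mem (mem_gen σ h 1)) (mem_gen σ h (i + 1))

theorem mem_tw {L : Subgroup H} {l : H} (hl : l ∈ L) : l⁻¹ * σ l ∈ tw σ L :=
  Subgroup.subset_closure ⟨l, hl, rfl⟩

theorem tw_le {L : Subgroup H} (hL : Inv σ L) : tw σ L ≤ L :=
  (Subgroup.closure_le _).2 fun _ ⟨l, hl, h⟩ => h ▸ mul_mem (inv_mem hl) (hL l hl)

theorem tw_inv {L : Subgroup H} (hL : Inv σ L) : Inv σ (tw σ L) := inv_closure fun x ⟨l, hl, h⟩ => by
  rw [h, map_mul, map_inv]
  exact mem_tw (hL l hl)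

theorem tw_mono {L L' : Subgroup H} (h : L ≤ L') : tw σ L ≤ tw σ L' :=
  Subgroup.closure_mono fun _ ⟨l, hl, he⟩ => ⟨l, h hl, he⟩

theorem pow_mem_tw {L : Subgroup H} (hL : Inv σ L) {l : H} (hl : l ∈ L) (i : ℕ) :
    l⁻¹ * (σ ^ i) l ∈ tw σ L := by
  induction i with
  | zero => simp
  | succ i ih =>
    have h1 := mul_mem ih (mem_tw (σ := σ) (pow_mem_inv hL i hl))
    rwa [← mul_assoc, mul_inv_cancel_right, ← MulAut.mul_apply, ← pow_succ'] at h1

theorem gen_le_tw {L : Subgroup H} (hL : Inv σ L) {h : H} (hh : h ∈ L) : gen σ h ≤ tw σ L :=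
  (Subgroup.closure_le _).2 fun _ ⟨i, hi⟩ => hi ▸ pow_mem_tw hL hh i

theorem conj_mem_tw {L : Subgroup H} (hL : Inv σ L) {g : H} (hg : g ∈ L) {a : H}
    (ha : a ∈ tw σ L) : g * a * g⁻¹ ∈ tw σ L := by
  refine (show tw σ L ≤ (tw σ L).comap (MulAut.conj g).toMonoidHom from
    (Subgroup.closure_le _).2 ?_) ha
  rintro _ ⟨x, hx, rfl⟩
  show g * (x⁻¹ * σ x) * g⁻¹ ∈ tw σ L
  rw [show g * (x⁻¹ * σ x) * g⁻¹ = ((x * g⁻¹)⁻¹ * σ (x * g⁻¹)) * (g⁻¹⁻¹ * σ g⁻¹)⁻¹ by
    rw [map_mul]; group]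
  exact mul_mem (mem_tw (mul_mem hx (inv_mem hg))) (inv_mem (mem_tw (inv_mem hg)))

theorem mem_tw_of_fixed_mul {L : Subgroup H} {l c : H} (hc : σ c = c) (hl : l ∈ L) :
    (c * l)⁻¹ * σ (c * l) ∈ tw σ L := by
  rw [map_mul, hc, mul_inv_rev, mul_assoc, inv_mul_cancel_left]
  exact mem_tw hl

theorem gen_mul_fixed {h c : H} (hc : σ c = c) : gen σ (c * h) = gen σ h := by
  have hpow : ∀ i : ℕ, (σ ^ i) c = c := by
    intro i
    induction i with
    | zero => rfl
    | succ i ih => rw [pow_succ', MulAut.mul_apply, ih, hc]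
  unfold gen
  congr 1
  ext x
  simp only [Set.mem_ofPred_eq, map_mul, hpow, mul_inv_rev, mul_assoc, inv_mul_cancel_left]

theorem core_le_fix : core σ ≤ fix σ := iSup_le fun _ => inf_le_right

theorem mem_core {h c : H} (hc : c ∈ gen σ h) (hf : σ c = c) : c ∈ core σ :=
  le_iSup (fun h => gen σ h ⊓ fix σ) h ⟨hc, hf⟩

theorem conj_mem_core {g : H} (hg : σ g = g) {d : H} (hd : d ∈ core σ) :
    g * d * g⁻¹ ∈ core σ := by
  refine (show core σ ≤ (core σ).comap (MulAut.conj g).toMonoidHom from iSup_le fun h => ?_) hd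
  rintro x ⟨hx, hxf⟩
  refine mem_core (h := h * g⁻¹) ?_ ?_
  · have hpow : ∀ i : ℕ, (σ ^ i) g⁻¹ = g⁻¹ := by
      intro i
      induction i with
      | zero => rfl
      | succ i ih => rw [pow_succ', MulAut.mul_apply, ih, map_inv, hg]
    refine (show gen σ h ≤ (gen σ (h * g⁻¹)).comap (MulAut.conj g).toMonoidHom from
      (Subgroup.closure_le _).2 ?_) hx
    rintro _ ⟨i, rfl⟩
    refine Subgroup.subset_closure ⟨i, ?_⟩
    show g * (h⁻¹ * (σ ^ i) h) * g⁻¹ = (h * g⁻¹)⁻¹ * (σ ^ i) (h * g⁻¹)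
    rw [map_mul, hpow]
    group
  · show σ (g * x * g⁻¹) = g * x * g⁻¹
    rw [map_mul, map_mul, map_inv, hg, mem_fix.1 hxf]

/-- The product over an orbit. -/
def orbitProd {A : Type*} [CommGroup A] (τ : MulAut A) (p : ℕ) : A →* A where
  toFun a := ∏ i ∈ Finset.range p, (τ ^ i) a
  map_one' := Finset.prod_eq_one fun i _ => map_one _
  map_mul' a b := by rw [← Finset.prod_mul_distrib]; exact Finset.prod_congr rfl fun i _ => map_mul _ a b

theorem orbitProd_fixed {A : Type*} [CommGroup A] {τ : MulAut A} {p : ℕ} (hτ : τ ^ p = 1) (a : A) :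
    τ (orbitProd τ p a) = orbitProd τ p a := by
  show τ (∏ i ∈ Finset.range p, (τ ^ i) a) = _
  rw [map_prod, Finset.prod_congr rfl fun i _ =>
    (by rw [← MulAut.mul_apply, ← pow_succ'] : τ ((τ ^ i) a) = (τ ^ (i + 1)) a)]
  have h2 := Finset.prod_range_succ' (fun i => (τ ^ i) a) p
  rw [Finset.prod_range_succ, hτ, pow_zero] at h2
  exact (mul_right_cancel h2).symm

theorem orbitProd_twist {A : Type*} [CommGroup A] {τ : MulAut A} {p : ℕ} (hτ : τ ^ p = 1) (a : A) :
    orbitProd τ p (a⁻¹ * τ a) = 1 := by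
  rw [map_mul, map_inv, inv_mul_eq_one]
  have h : ∀ i, (τ ^ i) (τ a) = τ ((τ ^ i) a) := fun i => by
    rw [← MulAut.mul_apply, ← MulAut.mul_apply, ← pow_succ, ← pow_succ']
  show _ = ∏ i ∈ Finset.range p, (τ ^ i) (τ a)
  rw [Finset.prod_congr rfl fun i _ => h i, ← map_prod]
  exact (orbitProd_fixed hτ a).symm

theorem orbitProd_of_fixed {A : Type*} [CommGroup A] {τ : MulAut A} (p : ℕ) {a : A}
    (ha : τ a = a) : orbitProd τ p a = a ^ p := by
  have hpow : ∀ i : ℕ, (τ ^ i) a = a := by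
    intro i
    induction i with
    | zero => rfl
    | succ i ih => rw [pow_succ', MulAut.mul_apply, ih, ha]
  show ∏ i ∈ Finset.range p, (τ ^ i) a = _
  rw [Finset.prod_congr rfl fun i _ => hpow i, Finset.prod_const, Finset.card_range]

variable [Finite H] {p : ℕ} [hp : Fact p.Prime]

/-- An invariant coset contains a fixed point. -/
theorem exists_fixed_coset (hσ : σ ^ p = 1) (hcop : ¬ p ∣ Nat.card H) {N : Subgroup H}
    (hN : Inv σ N) {h : H} (hh : h⁻¹ * σ h ∈ N) : ∃ c, σ c = c ∧ h⁻¹ * c ∈ N := by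
  haveI := Fintype.ofFinite H
  let τ : Equiv.Perm {x : H // h⁻¹ * x ∈ N} :=
    Equiv.ofBijective (fun x => ⟨σ x, by
      have h1 : h⁻¹ * σ (x : H) = (h⁻¹ * σ h) * σ (h⁻¹ * x) := by rw [map_mul, map_inv]; group
      rw [h1]
      exact mul_mem hh (hN _ x.2)⟩)
      (Finite.injective_iff_bijective.1 fun a b hab =>
        Subtype.ext (σ.injective (congrArg Subtype.val hab)))
  have hτ : ∀ (i : ℕ) (x : {x : H // h⁻¹ * x ∈ N}), (((τ ^ i) x : _) : H) = (σ ^ i) x := by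
    intro i
    induction i with
    | zero => intro x; rfl
    | succ i ih =>
      intro x
      rw [pow_succ', Equiv.Perm.mul_apply, pow_succ' σ, MulAut.mul_apply, ← ih]
      rfl
  have hP : IsPGroup p (Subgroup.zpowers τ) := by
    intro g
    refine ⟨1, Subtype.ext ?_⟩
    obtain ⟨k, hk⟩ := Subgroup.mem_zpowers_iff.1 g.2
    have h1 : τ ^ p = 1 := Equiv.ext fun x => Subtype.ext (by rw [hτ, hσ]; rfl)
    rw [pow_one, SubgroupClass.coe_pow, ← hk, ← zpow_natCast, ← zpow_mul, mul_comm, zpow_mul,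
      zpow_natCast, h1, one_zpow, OneMemClass.coe_one]
  have hcard : Nat.card {x : H // h⁻¹ * x ∈ N} = Nat.card N := Nat.card_congr
    { toFun := fun x => ⟨h⁻¹ * x, x.2⟩
      invFun := fun y => ⟨h * y, by simp⟩
      left_inv := fun x => Subtype.ext (by simp)
      right_inv := fun y => Subtype.ext (by simp) }
  obtain ⟨c, hc⟩ := hP.nonempty_fixed_point_of_prime_not_dvd_card {x : H // h⁻¹ * x ∈ N}
    (fun hd => hcop ((hcard ▸ hd).trans (Subgroup.card_subgroup_dvd_card N)))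
  exact ⟨c, congrArg Subtype.val (hc ⟨τ, Subgroup.mem_zpowers τ⟩), c.2⟩

/-- `L = C_L(σ) [L, σ]`. -/
theorem exists_fixed_mul (hσ : σ ^ p = 1) (hcop : ¬ p ∣ Nat.card H) {L : Subgroup H}
    (hL : Inv σ L) {l : H} (hl : l ∈ L) :
    ∃ c t, σ c = c ∧ c ∈ L ∧ t ∈ tw σ L ∧ l = c * t := by
  obtain ⟨c, hc, hct⟩ := exists_fixed_coset hσ hcop (tw_inv hL) (mem_tw hl)
  refine ⟨c, c⁻¹ * l, hc, ?_, ?_, (mul_inv_cancel_left c l).symm⟩
  · simpa using mul_mem hl (tw_le hL hct)
  · simpa using inv_mem hct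

/-- The restriction to an invariant subgroup. -/
noncomputable def restrict (σ : MulAut H) (L : Subgroup H) (hL : Inv σ L) : MulAut L :=
  MulEquiv.ofBijective
    ({ toFun := fun x => ⟨σ x, hL _ x.2⟩
       map_one' := Subtype.ext (map_one σ)
       map_mul' := fun a b => Subtype.ext (map_mul σ _ _) } : L →* L)
    (Finite.injective_iff_bijective.1 fun a b h =>
      Subtype.ext (σ.injective (congrArg Subtype.val h)))

theorem restrict_pow {L : Subgroup H} (hL : Inv σ L) (i : ℕ) (x : L) :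
    (((restrict σ L hL) ^ i) x : H) = (σ ^ i) x := by
  induction i generalizing x with
  | zero => rfl
  | succ i ih =>
    rw [pow_succ', MulAut.mul_apply, pow_succ' σ, MulAut.mul_apply, ← ih]
    rfl

theorem restrict_pow_eq_one {L : Subgroup H} (hL : Inv σ L) {n : ℕ} (hσ : σ ^ n = 1) :
    restrict σ L hL ^ n = 1 :=
  MulEquiv.ext fun x => Subtype.ext (by rw [restrict_pow, hσ]; rfl)

theorem map_gen_restrict {L : Subgroup H} (hL : Inv σ L) (l : L) :
    (gen (restrict σ L hL) l).map L.subtype = gen σ (l : H) := by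
  unfold gen
  rw [MonoidHom.map_closure]
  congr 1
  ext x
  simp only [Set.mem_image, Set.mem_ofPred_eq, Subgroup.coe_subtype]
  constructor
  · rintro ⟨_, ⟨i, rfl⟩, rfl⟩
    exact ⟨i, by rw [Subgroup.coe_mul, Subgroup.coe_inv, restrict_pow]⟩
  · rintro ⟨i, rfl⟩
    exact ⟨_, ⟨i, rfl⟩, by rw [Subgroup.coe_mul, Subgroup.coe_inv, restrict_pow]⟩

theorem map_core_restrict {L : Subgroup H} (hL : Inv σ L) :
    (core (restrict σ L hL)).map L.subtype ≤ core σ := by
  rw [core, Subgroup.map_iSup]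
  refine iSup_le fun l => ?_
  rintro _ ⟨x, ⟨hx, hxf⟩, rfl⟩
  exact mem_core ((map_gen_restrict hL l).le ⟨x, hx, rfl⟩) (congrArg Subtype.val (mem_fix.1 hxf))

/-- The induced automorphism of a quotient. -/
noncomputable def quotAut (σ : MulAut H) (N : Subgroup H) [N.Normal] (hN : Inv σ N) :
    MulAut (H ⧸ N) :=
  QuotientGroup.congr N N σ (Subgroup.eq_of_le_of_card_ge (by rintro _ ⟨x, hx, rfl⟩; exact hN x hx)
    (Subgroup.card_map_of_injective (f := (σ : H →* H)) σ.injective).ge)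

theorem quotAut_pow {N : Subgroup H} [N.Normal] (hN : Inv σ N) (i : ℕ) (x : H) :
    ((quotAut σ N hN) ^ i) (x : H ⧸ N) = (((σ ^ i) x : H) : H ⧸ N) := by
  induction i generalizing x with
  | zero => rfl
  | succ i ih => rw [pow_succ', MulAut.mul_apply, ih, pow_succ' σ, MulAut.mul_apply]; rfl

theorem quotAut_pow_eq_one {N : Subgroup H} [N.Normal] (hN : Inv σ N) {n : ℕ} (hσ : σ ^ n = 1) :
    quotAut σ N hN ^ n = 1 := MulEquiv.ext fun q => by
  induction q using QuotientGroup.induction_on with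
  | H x => rw [quotAut_pow, hσ]; rfl

theorem map_gen_quot {N : Subgroup H} [N.Normal] (hN : Inv σ N) (h : H) :
    (gen σ h).map (QuotientGroup.mk' N) = gen (quotAut σ N hN) (h : H ⧸ N) := by
  unfold gen
  rw [MonoidHom.map_closure]
  congr 1
  ext x
  simp only [Set.mem_image, Set.mem_ofPred_eq, QuotientGroup.mk'_apply]
  constructor
  · rintro ⟨_, ⟨i, rfl⟩, rfl⟩
    exact ⟨i, by rw [QuotientGroup.mk_mul, QuotientGroup.mk_inv, quotAut_pow]⟩
  · rintro ⟨i, rfl⟩
    exact ⟨_, ⟨i, rfl⟩, by rw [QuotientGroup.mk_mul, QuotientGroup.mk_inv, quotAut_pow]⟩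

/-- If the quotient is covered, a fixed point is a product of an element of the core and one of
the kernel. -/
theorem mem_core_mul (hσ : σ ^ p = 1) (hcop : ¬ p ∣ Nat.card H) {N : Subgroup H} [N.Normal]
    (hN : Inv σ N) (hq : fix (quotAut σ N hN) ≤ core (quotAut σ N hN)) {c : H} (hc : σ c = c) :
    ∃ d m, d ∈ core σ ∧ m ∈ N ∧ σ m = m ∧ c = d * m := by
  have hle : core (quotAut σ N hN) ≤ (core σ).map (QuotientGroup.mk' N) := by
    refine iSup_le fun q => ?_
    induction q using QuotientGroup.induction_on with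
    | H h =>
      rintro _ ⟨hy, hyf⟩
      rw [← map_gen_quot hN h] at hy
      obtain ⟨y, hy, rfl⟩ := hy
      have hyN : y⁻¹ * σ y ∈ N ⊓ gen σ h :=
        ⟨QuotientGroup.eq.1 (mem_fix.1 hyf).symm, (gen σ h).mul_mem ((gen σ h).inv_mem hy) (gen_inv h y hy)⟩
      obtain ⟨d, hd, hyd⟩ := exists_fixed_coset hσ hcop (N := N ⊓ gen σ h)
        (fun x hx => ⟨hN x hx.1, gen_inv h x hx.2⟩) hyN
      refine ⟨d, mem_core (h := h) ?_ hd, (QuotientGroup.eq.2 hyd.1).symm⟩
      simpa using mul_mem hy hyd.2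
  obtain ⟨d, hd, hdc⟩ := hle (hq (show (QuotientGroup.mk' N c) ∈ fix (quotAut σ N hN) by
    show (quotAut σ N hN) ((c : H) : H ⧸ N) = _
    exact congrArg _ hc))
  refine ⟨d, d⁻¹ * c, hd, QuotientGroup.eq.1 hdc, ?_, (mul_inv_cancel_left d c).symm⟩
  rw [map_mul, map_inv, mem_fix.1 (core_le_fix hd), hc]

end CfsgLib.FixedTwist
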