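import Mathlib
import Cfsg.Agent.FGS74.FrobeniusFree

/-!
The fixed points of a fixed-point-free action on an elementary abelian group have the order
predicted by freeness.
-/

set_option autoImplicit false
set_option linter.style.haveILetI false
set_option linter.unusedSectionVars false
set_option linter.unusedVariables false

namespace CfsgLib.FixedTwist

universe u

open CfsgLib.FGS74

theorem exists_linear_aut {l : ℕ} (M : Type u) [CommGroup M] [Module (ZMod l) (Additive M)] :
    ∃ L : MulAut M →* Module.End (ZMod l) (Additive M),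
      ∀ f v, L f v = Additive.ofMul (f (Additive.toMul v)) :=
  ⟨{ toFun := fun f =>
      { toFun := fun v => Additive.ofMul (f (Additive.toMul v))
        map_add' := fun x y => congrArg Additive.ofMul (map_mul f _ _)
        map_smul' := fun c x =>
          ZMod.map_smul (MonoidHom.toAdditive f.toMonoidHom) c x }
     map_one' := LinearMap.ext fun _ => rfl
     map_mul' := fun _ _ => LinearMap.ext fun _ => rfl }, fun _ _ => rfl⟩

/-- An element of prime order normalising, without fixed points, an abelian group of coprime order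
that has no fixed points on an elementary abelian group `M`: `|C_M(τ)| ^ p = |M|`. -/
theorem card_fixed_pow {M : Type u} [CommGroup M] [Finite M] {l p : ℕ} [hl : Fact l.Prime]
    [hp : Fact p.Prime] (hM : ∀ m : M, m ^ l = 1) (N0 : Subgroup (MulAut M)) (τ : MulAut M)
    (hτ : τ ^ p = 1) (hτ1 : τ ≠ 1) (hcomm : ∀ a ∈ N0, ∀ b ∈ N0, a * b = b * a)
    (hnorm : ∀ a ∈ N0, τ * a * τ⁻¹ ∈ N0) (hfpf : ∀ a ∈ N0, τ * a = a * τ → a = 1)
    (hcop : ¬ l ∣ Nat.card N0) (hfix : ∀ m : M, (∀ a ∈ N0, a m = m) → m = 1) :
    Nat.card {m : M // τ m = m} ^ p = Nat.card M := by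
  haveI : Finite (MulAut M) :=
    Finite.of_injective (fun f : MulAut M => (f : M → M)) DFunLike.coe_injective
  have hord : orderOf τ = p := orderOf_eq_prime hτ hτ1
  set A : Subgroup (MulAut M) := N0 ⊔ Subgroup.zpowers τ
  have hAnorm : A ≤ Subgroup.normalizer (N0 : Set (MulAut M)) := by
    refine sup_le Subgroup.le_normalizer (Subgroup.zpowers_le.2 ?_)
    have h1 : N0.map (MulAut.conj τ).toMonoidHom = N0 :=
      Subgroup.eq_of_le_of_card_ge (by rintro _ ⟨a, ha, rfl⟩; exact hnorm a ha)
        (Subgroup.card_map_of_injective (MulAut.conj τ).injective).ge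
    exact Subgroup.mem_normalizer_iff_map_conj_eq.2 h1
  have hM' : ∀ v : Additive M, l • v = 0 := fun v => hM v.toMul
  haveI : Module (ZMod l) (Additive M) := AddCommGroup.zmodModule hM'
  haveI : Finite (Additive M) := Finite.of_equiv M Additive.ofMul
  haveI : Module.Finite (ZMod l) (Additive M) := Module.Finite.of_finite
  obtain ⟨L, hL⟩ := exists_linear_aut (l := l) M
  let ρ : Representation (ZMod l) A (Additive M) :=
    { toFun := fun a => L (a : MulAut M)
      map_one' := L.map_one
      map_mul' := fun a b => L.map_mul a b }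
  have hρ : ∀ (a : A) (v : Additive M), ρ a v = Additive.ofMul ((a : MulAut M) v.toMul) :=
    fun a v => hL _ v
  haveI : (N0.subgroupOf A).Normal := ⟨fun x hx g => by
    rw [Subgroup.mem_subgroupOf] at hx ⊢
    exact (Subgroup.mem_normalizer_iff.1 (hAnorm g.2) _).1 hx⟩
  haveI : Group.IsSolvable N0 := by
    haveI : IsMulCommutative N0 := ⟨⟨fun a b => Subtype.ext (hcomm a a.2 b b.2)⟩⟩
    exact Group.isSolvable_of_comm fun a b => mul_comm' a b
  haveI : Group.IsSolvable (N0.subgroupOf A) :=
    Group.isSolvable_of_surjective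
      (f := (Subgroup.subgroupOfEquivOfLe (le_sup_left : N0 ≤ A)).symm.toMonoidHom)
      (Subgroup.subgroupOfEquivOfLe (le_sup_left : N0 ≤ A)).symm.surjective
  set T : Subgroup A := (Subgroup.zpowers τ).subgroupOf A
  have hT : Nat.card T = p := by
    rw [Nat.card_congr (Subgroup.subgroupOfEquivOfLe (le_sup_right : Subgroup.zpowers τ ≤ A)).toEquiv,
      Nat.card_zpowers, hord]
  have h := FrobFree.card_mul_finrank_fixed T (N0.subgroupOf A) ?_ ?_ ρ ?_
  · rw [hT] at h
    have e1 : Nat.card {m : M // τ m = m} =
        l ^ Module.finrank (ZMod l) (FrobFree.fixedSub ρ T) := by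
      rw [← Nat.card_congr (Equiv.subtypeEquiv (p := fun v => v ∈ FrobFree.fixedSub ρ T)
        (q := fun m : M => τ m = m) Additive.toMul ?_), Module.natCard_eq_pow_finrank (K := ZMod l),
        Nat.card_zmod]
      intro v
      constructor
      · intro hv
        have h1 := hv ⟨τ, le_sup_right (a := N0) (Subgroup.mem_zpowers τ)⟩ (Subgroup.mem_zpowers τ)
        rw [hρ] at h1
        exact congrArg Additive.toMul h1
      · intro hv a ha
        obtain ⟨k, hk⟩ := Subgroup.mem_zpowers_iff.1 ha
        have hS : ∀ f ∈ Subgroup.zpowers τ, f (Additive.toMul v) = Additive.toMul v := by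
          intro f hf
          exact (show Subgroup.zpowers τ ≤ MulAction.stabilizer (MulAut M) (Additive.toMul v) from
            Subgroup.zpowers_le.2 hv) hf
        show ρ a v = v
        rw [hρ]
        exact congrArg Additive.ofMul (hS _ ha)
    have e2 : Nat.card M = l ^ Module.finrank (ZMod l) (Additive M) := by
      rw [← Nat.card_congr (Additive.toMul (α := M)), Module.natCard_eq_pow_finrank (K := ZMod l),
        Nat.card_zmod]
    rw [e1, e2, ← pow_mul, mul_comm, h]
  · intro t ht ht1 a ha hta
    have hta' : (t : MulAut M) * (a : MulAut M) = a * t := congrArg Subtype.val hta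
    have ht' : orderOf (t : MulAut M) = p := by
      rcases (Nat.dvd_prime hp.out).1 (hord ▸ orderOf_dvd_of_mem_zpowers ht) with h | h
      · exact absurd (orderOf_eq_one_iff.1 h) (fun e => ht1 (Subtype.ext e))
      · exact h
    have hmem : τ ∈ Subgroup.zpowers (t : MulAut M) :=
      (Subgroup.eq_of_le_of_card_ge
        (Subgroup.zpowers_le.2 (show (t : MulAut M) ∈ Subgroup.zpowers τ from ht))
        (by rw [Nat.card_zpowers, Nat.card_zpowers, hord, ht'])).ge (Subgroup.mem_zpowers τ)
    obtain ⟨k, hk⟩ := Subgroup.mem_zpowers_iff.1 hmem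
    refine Subtype.ext (hfpf _ ha ?_)
    rw [← hk]
    exact (Commute.zpow_left hta' k).eq
  · rw [Ne, Nat.card_congr (Subgroup.subgroupOfEquivOfLe (le_sup_left : N0 ≤ A)).toEquiv]
    exact fun h => hcop ((CharP.cast_eq_zero_iff (ZMod l) l _).1 h)
  · rw [Submodule.eq_bot_iff]
    intro v hv
    exact congrArg Additive.ofMul (hfix (Additive.toMul v) fun a ha => by
      have h1 := hv ⟨a, le_sup_left (b := Subgroup.zpowers τ) ha⟩ ha
      rw [hρ] at h1
      exact congrArg Additive.toMul h1)

end CfsgLib.FixedTwist
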