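import Mathlib
import Cfsg.Agent.FixedTwist.Basic
import Cfsg.Agent.FixedTwist.Count
import Cfsg.Agent.Solvable.Fitting
import Cfsg.Agent.Solvable.Frattini
import Cfsg.Agent.Solvable.Nilpotent

/-!
For a coprime automorphism of odd prime order of a solvable group, the fixed points of `[H, σ]`
are generated by those of the subgroups `[h, σ]`.
-/

set_option autoImplicit false
set_option linter.style.haveILetI false
set_option linter.unusedSectionVars false
set_option linter.unusedVariables false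

open scoped commutatorElement IsMulCommutative

namespace CfsgLib.FixedTwist

universe u

variable {H : Type u} [Group H] [Finite H] {σ : MulAut H} {p : ℕ} [hp : Fact p.Prime]

theorem mem_of_twist_top (htop : tw σ ⊤ = ⊤) {S : Subgroup H} (h : ∀ l, l⁻¹ * σ l ∈ S) (x : H) :
    x ∈ S :=
  (show tw σ ⊤ ≤ S from (Subgroup.closure_le S).2 fun y hy => by
    obtain ⟨l, -, rfl⟩ := hy
    exact h l) (htop.ge (Subgroup.mem_top x))

theorem tw_quot_top {N : Subgroup H} [N.Normal] (hN : Inv σ N) (htop : tw σ ⊤ = ⊤) :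
    tw (quotAut σ N hN) ⊤ = ⊤ := by
  rw [eq_top_iff]
  intro q _
  induction q using QuotientGroup.induction_on with
  | H x =>
    refine (show tw σ ⊤ ≤ (tw (quotAut σ N hN) ⊤).comap (QuotientGroup.mk' N) from
      (Subgroup.closure_le _).2 ?_) (htop.ge (Subgroup.mem_top x))
    rintro _ ⟨l, -, rfl⟩
    exact mem_tw (σ := quotAut σ N hN) (L := ⊤) (Subgroup.mem_top ((l : H) : H ⧸ N))

theorem coe_orbitProd {L : Subgroup H} (hL : Inv σ L) [IsMulCommutative L] {S : Subgroup H}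
    (hS : Inv σ S) {a : L} (ha : (a : H) ∈ S) :
    ((orbitProd (restrict σ L hL) p a : L) : H) ∈ S := by
  refine (show ∏ i ∈ Finset.range p, ((restrict σ L hL) ^ i) a ∈ S.subgroupOf L from
    Subgroup.prod_mem _ fun i _ => ?_)
  rw [Subgroup.mem_subgroupOf, restrict_pow]
  exact pow_mem_inv hS i ha

theorem eq_one_of_pow_prime (hcop : ¬ p ∣ Nat.card H) {x : H} (hx : x ^ p = 1) : x = 1 := by
  rcases (Nat.dvd_prime hp.out).1 (orderOf_dvd_of_pow_eq_one hx) with h | h
  · exact orderOf_eq_one_iff.1 h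
  · exact absurd (h ▸ orderOf_dvd_natCard x) hcop

theorem mem_of_pow_prime (hcop : ¬ p ∣ Nat.card H) {S : Subgroup H} {x : H} (hx : x ^ p ∈ S) :
    x ∈ S := by
  obtain ⟨j, hj⟩ := exists_pow_eq_self_of_coprime (x := x) (n := p)
    (hp.out.coprime_iff_not_dvd.2 fun h => hcop (h.trans (orderOf_dvd_natCard x)))
  rw [← hj]
  exact pow_mem hx j

/-- If everything is a product of twists, a fixed point lies in every invariant normal subgroup
with abelian quotient. -/
theorem mem_of_fixed_of_comm (hσ : σ ^ p = 1) (hcop : ¬ p ∣ Nat.card H) (htop : tw σ ⊤ = ⊤)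
    {N : Subgroup H} [N.Normal] (hN : Inv σ N) (hcomm : commutator H ≤ N) {c : H}
    (hc : c⁻¹ * σ c ∈ N) : c ∈ N := by
  haveI : IsMulCommutative (H ⧸ N) := by
    refine ⟨⟨fun a b => ?_⟩⟩
    induction a using QuotientGroup.induction_on with
    | H a =>
      induction b using QuotientGroup.induction_on with
      | H b =>
        rw [← QuotientGroup.mk_mul, ← QuotientGroup.mk_mul, QuotientGroup.eq]
        refine hcomm ?_
        have := Subgroup.commutator_mem_commutator (Subgroup.mem_top b⁻¹) (Subgroup.mem_top a⁻¹)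
        rw [commutatorElement_def, inv_inv, inv_inv] at this
        rw [mul_inv_rev, ← mul_assoc]
        exact this
  have hq : quotAut σ N hN ^ p = 1 := quotAut_pow_eq_one hN hσ
  have hker : ∀ x : H, orbitProd (quotAut σ N hN) p (x : H ⧸ N) = 1 := by
    intro x
    refine (show tw σ ⊤ ≤ ((orbitProd (quotAut σ N hN) p).comp (QuotientGroup.mk' N)).ker from
      (Subgroup.closure_le _).2 ?_) (htop.ge (Subgroup.mem_top x))
    rintro _ ⟨l, -, rfl⟩
    exact orbitProd_twist hq ((l : H) : H ⧸ N)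
  have hfix : quotAut σ N hN (c : H ⧸ N) = (c : H ⧸ N) := by
    show ((σ c : H) : H ⧸ N) = c
    exact (QuotientGroup.eq.2 hc).symm
  have h1 := hker c
  rw [orbitProd_of_fixed p hfix, ← QuotientGroup.mk_pow, QuotientGroup.eq_one_iff] at h1
  exact mem_of_pow_prime hcop h1

theorem exists_inv_sylow (hσ : σ ^ p = 1) (hcop : ¬ p ∣ Nat.card H) (l : ℕ) [Fact l.Prime] :
    ∃ Q : Sylow l H, Inv σ (Q : Subgroup H) := by
  classical
  haveI : Fintype (Sylow l H) := Fintype.ofFinite _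
  let f : Sylow l H → Sylow l H := fun Q => σ • Q
  let τ : Equiv.Perm (Sylow l H) := MulAction.toPerm σ
  have hP : IsPGroup p (Subgroup.zpowers τ) := by
    intro g
    refine ⟨1, Subtype.ext ?_⟩
    obtain ⟨k, hk⟩ := Subgroup.mem_zpowers_iff.1 g.2
    have h1 : τ ^ p = 1 := by
      rw [show τ = MulAction.toPermHom (MulAut H) (Sylow l H) σ from rfl, ← map_pow, hσ, map_one]
    rw [pow_one, SubgroupClass.coe_pow, ← hk, ← zpow_natCast, ← zpow_mul, mul_comm, zpow_mul,
      zpow_natCast, h1, one_zpow, OneMemClass.coe_one]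
  obtain ⟨Q, hQ⟩ := hP.nonempty_fixed_point_of_prime_not_dvd_card (Sylow l H) (fun hd => hcop
    (hd.trans ((Sylow.card_dvd_index (Classical.arbitrary (Sylow l H))).trans
      (Subgroup.index_dvd_card _))))
  refine ⟨Q, fun x hx => ?_⟩
  have h1 : σ • Q = Q := hQ ⟨τ, Subgroup.mem_zpowers τ⟩
  have h2 : σ x ∈ ((σ • Q : Sylow l H) : Subgroup H) := by
    rw [Sylow.pointwise_smul_def]
    exact Subgroup.smul_mem_pointwise_smul x σ _ hx
  rwa [h1] at h2

theorem gen_eq_top_of_twist (htop : tw σ ⊤ = ⊤) {P : Subgroup H} (hP : Inv σ P)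
    (hcomm : commutator H ≤ P) {h : H} (hh : h⁻¹ * σ h ∈ P)
    (hgen : P ⊔ Subgroup.zpowers h = ⊤) : P = ⊤ := by
  haveI hPn : P.Normal := ⟨fun x hx g => by
    rw [show g * x * g⁻¹ = ⁅g, x⁆ * x by rw [commutatorElement_def]; group]
    exact mul_mem (hcomm (Subgroup.commutator_mem_commutator (Subgroup.mem_top g)
      (Subgroup.mem_top x))) hx⟩
  let S : Subgroup H :=
    { carrier := {x | x⁻¹ * σ x ∈ P}
      one_mem' := by simp
      mul_mem' := fun {a b} (ha : a⁻¹ * σ a ∈ P) (hb : b⁻¹ * σ b ∈ P) => by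
        show (a * b)⁻¹ * σ (a * b) ∈ P
        rw [map_mul, show (a * b)⁻¹ * (σ a * σ b) = b⁻¹ * (a⁻¹ * σ a) * b⁻¹⁻¹ * (b⁻¹ * σ b) by group]
        exact mul_mem (hPn.conj_mem _ ha b⁻¹) hb
      inv_mem' := fun {a} (ha : a⁻¹ * σ a ∈ P) => by
        show a⁻¹⁻¹ * σ a⁻¹ ∈ P
        rw [map_inv, show a⁻¹⁻¹ * (σ a)⁻¹ = a * (a⁻¹ * σ a)⁻¹ * a⁻¹ by group]
        exact hPn.conj_mem _ (inv_mem ha) a }
  have hS : (⊤ : Subgroup H) ≤ S :=
    hgen ▸ sup_le (fun x hx => mul_mem (inv_mem hx) (hP x hx)) (Subgroup.zpowers_le.2 hh)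
  rw [eq_top_iff, ← htop]
  exact (Subgroup.closure_le _).2 fun _ ⟨l, hl, he⟩ => he ▸ hS hl

theorem commutator_ne_self [Group.IsNilpotent H] {W : Subgroup H} (hW : W ≠ ⊥) :
    ⁅W, (⊤ : Subgroup H)⁆ ≠ W := by
  intro h
  obtain ⟨n, hn⟩ := (Subgroup.isNilpotent_iff_lowerCentralSeries (⊤ : Subgroup H)).1
    (Group.nilpotent_of_surjective (Subgroup.topEquiv (G := H)).symm.toMonoidHom
      (Subgroup.topEquiv (G := H)).symm.surjective)
  have hle : ∀ i, W ≤ (⊤ : Subgroup H).lowerCentralSeries i := by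
    intro i
    induction i with
    | zero => simp [Subgroup.lowerCentralSeries_zero]
    | succ i ih =>
      rw [Subgroup.lowerCentralSeries_succ, ← h]
      exact Subgroup.commutator_mono ih le_rfl
  exact hW (le_bot_iff.1 (hn ▸ hle n))

/-- The facts available in an induction step. -/
structure Step (σ : MulAut H) (p : ℕ) : Prop where
  pow_eq : σ ^ p = 1
  cop : ¬ p ∣ Nat.card H
  top : tw σ ⊤ = ⊤
  sub : ∀ L : Subgroup H, Inv σ L → L ≠ ⊤ → ∀ c ∈ tw σ L, σ c = c → c ∈ core σ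
  quot : ∀ N : Subgroup H, N.Normal → Inv σ N → N ≠ ⊥ → ∀ c, σ c = c →
    ∃ d m, d ∈ core σ ∧ m ∈ N ∧ σ m = m ∧ c = d * m

namespace Step

variable (S : Step σ p)
include S

theorem core_of_gen {h : H} (hg : gen σ h = ⊤) {c : H} (hc : σ c = c) : c ∈ core σ :=
  mem_core (h := h) (hg ▸ Subgroup.mem_top c) hc

theorem central_of_fixed {V : Subgroup H} [V.Normal] (hV : ∀ v ∈ V, σ v = v) :
    V ≤ Subgroup.center H := by
  intro v hv
  rw [Subgroup.mem_center_iff]
  intro g
  have hle : tw σ ⊤ ≤ Subgroup.centralizer (V : Set H) := by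
    refine (Subgroup.closure_le _).2 ?_
    rintro _ ⟨l, -, rfl⟩
    rw [SetLike.mem_coe, Subgroup.mem_centralizer_iff]
    intro u hu
    have h1 := hV _ ((inferInstance : V.Normal).conj_mem u hu l)
    rw [map_mul, map_mul, map_inv, hV u hu] at h1
    calc u * (l⁻¹ * σ l) = l⁻¹ * (l * u * l⁻¹) * σ l := by group
      _ = l⁻¹ * (σ l * u * (σ l)⁻¹) * σ l := by rw [h1]
      _ = l⁻¹ * σ l * u := by group
  exact (Subgroup.mem_centralizer_iff.1 (hle (S.top.ge (Subgroup.mem_top g))) v hv).symm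

/-- The non-central case. -/
theorem noncentral (hp2 : p ≠ 2) {M : Subgroup H} [M.Normal] [IsMulCommutative M] {l : ℕ}
    (hl : l.Prime) (hMi : Inv σ M) (hMexp : ∀ x ∈ M, x ^ l = 1) (hlp : l ≠ p)
    (hmin : ∀ L : Subgroup H, L.Normal → Inv σ L → L ≤ M → L ≠ M → L = ⊥)
    (hnc : ¬ M ≤ Subgroup.center H) : ∀ m ∈ M, σ m = m → m ∈ core σ := by
  classical
  haveI := Fact.mk hl
  intro m₀ hm₀ hm₀f
  by_contra hbad
  have hσ := S.pow_eq
  have hcop := S.cop
  have hMne : M ≠ ⊥ := fun h => hnc (h ▸ bot_le)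
  set τ := restrict σ M hMi with hτdef
  have hτp : τ ^ p = 1 := restrict_pow_eq_one hMi hσ
  set U : Subgroup M := ((core σ).subgroupOf M).comap (orbitProd τ p) with hUdef
  have hU : U ≠ ⊤ := fun h => hbad (mem_of_pow_prime hcop (by
    have h1 : (⟨m₀, hm₀⟩ : M) ∈ U := h ▸ Subgroup.mem_top _
    rw [hUdef, Subgroup.mem_comap, Subgroup.mem_subgroupOf,
      orbitProd_of_fixed p (Subtype.ext (show σ m₀ = m₀ from hm₀f))] at h1
    simpa using h1))
  let T : Subgroup H :=
    { carrier := {g | ∀ m : M, MulAut.conjNormal g m * m⁻¹ ∈ U}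
      one_mem' := fun m => by simp
      mul_mem' := fun {a b} ha hb m => by
        have h1 := U.mul_mem (ha (MulAut.conjNormal b m)) (hb m)
        rwa [← mul_assoc, inv_mul_cancel_right, ← MulAut.mul_apply, ← map_mul] at h1
      inv_mem' := fun {a} ha m => by
        have h1 := U.inv_mem (ha (MulAut.conjNormal a⁻¹ m))
        rwa [← MulAut.mul_apply, ← map_mul, mul_inv_cancel, map_one, MulAut.one_apply, mul_inv_rev,
          inv_inv] at h1 }
  -- a normal invariant piece inside `U` is trivial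
  have hsmall : ∀ N : Subgroup H, N.Normal → Inv σ N → N ≤ M →
      (∀ x : M, (x : H) ∈ N → x ∈ U) → N = ⊥ := fun N hNn hNi hNM hNU =>
    hmin N hNn hNi hNM fun he => hU (eq_top_iff.2 fun x _ => hNU x (he ▸ x.2))
  have hTtop : T ≠ ⊤ := by
    intro hT
    apply hnc
    have hb : ⁅(⊤ : Subgroup H), M⁆ = ⊥ := by
      refine hsmall _ inferInstance (inv_closure ?_) (Subgroup.commutator_le_right ⊤ M)
        fun x hx => ?_
      · rintro _ ⟨a, -, b, hb, rfl⟩
        rw [map_commutatorElement]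
        exact Subgroup.commutator_mem_commutator (Subgroup.mem_top _) (hMi b hb)
      · have hle : ⁅(⊤ : Subgroup H), M⁆ ≤ U.map M.subtype := by
          rw [Subgroup.commutator_le]
          intro g _ m hm
          exact ⟨_, (hT ▸ Subgroup.mem_top g : g ∈ T) ⟨m, hm⟩, by simp [commutatorElement_def]⟩
        obtain ⟨y, hy, hyx⟩ := hle hx
        rwa [← Subtype.ext (show (y : H) = x from hyx)]
    intro m hm
    rw [Subgroup.mem_center_iff]
    intro g
    have := Subgroup.commutator_mem_commutator (Subgroup.mem_top g) hm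
    rw [hb, Subgroup.mem_bot, commutatorElement_eq_one_iff_mul_comm] at this
    exact this
  -- twists of proper invariant subgroups lie in `T`
  have htwT : ∀ L, Inv σ L → M ≤ L → L ≠ ⊤ → tw σ L ≤ T := by
    intro L hLi hML hLt a ha m
    have hv : ((MulAut.conjNormal a m * m⁻¹ : M) : H) ∈ tw σ L := by
      rw [Subgroup.coe_mul, MulAut.conjNormal_apply, Subgroup.coe_inv,
        show a * (m : H) * a⁻¹ * (m : H)⁻¹ = a * ((m : H) * a⁻¹ * (m : H)⁻¹) by group]
      exact mul_mem ha (conj_mem_tw hLi (hML m.2) (inv_mem ha))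
    rw [hUdef, Subgroup.mem_comap, Subgroup.mem_subgroupOf]
    exact S.sub L hLi hLt _ (coe_orbitProd hMi (tw_inv hLi) hv)
      (congrArg Subtype.val (orbitProd_fixed hτp _))
  -- a Sylow subgroup covering the quotient
  obtain ⟨q, hq, Q, hQi, hQM⟩ : ∃ q : ℕ, q.Prime ∧ ∃ Q : Sylow q H, Inv σ (Q : Subgroup H) ∧
      (Q : Subgroup H) ⊔ M = ⊤ := by
    by_contra! hall
    apply hTtop
    set J : Subgroup H := ⨆ L : {L : Subgroup H // Inv σ L ∧ M ≤ L ∧ L ≠ ⊤}, tw σ L.1 with hJ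
    have hJT : J ≤ T := iSup_le fun L => htwT L.1 L.2.1 L.2.2.1 L.2.2.2
    have hJfix : ∀ c, σ c = c → ∀ x ∈ J, c * x * c⁻¹ ∈ J := by
      intro c hc x hx
      refine (show J ≤ J.comap (MulAut.conj c).toMonoidHom from iSup_le fun L => ?_) hx
      refine (Subgroup.closure_le _).2 ?_
      rintro _ ⟨y, hy, rfl⟩
      have hLi : Inv σ (L.1.map (MulAut.conj c).toMonoidHom) := by
        rintro _ ⟨a, ha, rfl⟩
        exact ⟨σ a, L.2.1 a ha, by simp [hc]⟩
      have hLM : M ≤ L.1.map (MulAut.conj c).toMonoidHom := fun a ha =>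
        ⟨c⁻¹ * a * c, L.2.2.1 (by simpa using (inferInstance : M.Normal).conj_mem a ha c⁻¹),
          by simp [mul_assoc]⟩
      have hLt : L.1.map (MulAut.conj c).toMonoidHom ≠ ⊤ := fun h => L.2.2.2 (by
        rw [← Subgroup.comap_map_eq_self_of_injective (f := (MulAut.conj c).toMonoidHom)
          (MulAut.conj c).injective L.1]
        exact (congrArg _ h).trans (Subgroup.comap_top _))
      refine le_iSup (fun L : {L : Subgroup H // Inv σ L ∧ M ≤ L ∧ L ≠ ⊤} => tw σ L.1)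
        ⟨_, hLi, hLM, hLt⟩ ?_
      show c * (y⁻¹ * σ y) * c⁻¹ ∈ tw σ _
      rw [show c * (y⁻¹ * σ y) * c⁻¹ = (c * y * c⁻¹)⁻¹ * σ (c * y * c⁻¹) by
        rw [map_mul, map_mul, map_inv, hc]; group]
      exact mem_tw ⟨y, hy, rfl⟩
    have hnorm : ∀ (q : ℕ) [Fact q.Prime] (Q : Sylow q H), Inv σ (Q : Subgroup H) →
        (Q : Subgroup H) ≤ J ⊔ fix σ := by
      intro q _ Q hQi x hx
      have hLi : Inv σ ((Q : Subgroup H) ⊔ M) := by
        intro y hy
        obtain ⟨a, ha, b, hb, rfl⟩ := Subgroup.mem_sup_of_normal_right.1 hy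
        rw [map_mul]
        exact Subgroup.mul_mem_sup (hQi a ha) (hMi b hb)
      obtain ⟨c, t, hc, -, ht, rfl⟩ := exists_fixed_mul hσ hcop hLi (Subgroup.mem_sup_left hx)
      exact mul_mem (Subgroup.mem_sup_right hc) (Subgroup.mem_sup_left
        (le_iSup (fun L : {L : Subgroup H // Inv σ L ∧ M ≤ L ∧ L ≠ ⊤} => tw σ L.1)
          ⟨_, hLi, le_sup_right, hall q (Fact.out) Q hQi⟩ ht))
    choose P hP using fun q : (Nat.card H).primeFactors =>
      haveI := Fact.mk (Nat.prime_of_mem_primeFactors q.2)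
      exists_inv_sylow (σ := σ) hσ hcop (q : ℕ)
    have htop : J ⊔ fix σ = ⊤ := eq_top_iff.2 (CfsgLib.Solvable.iSup_sylow_eq_top P ▸
      iSup_le fun q => haveI := Fact.mk (Nat.prime_of_mem_primeFactors q.2); hnorm _ (P q) (hP q))
    have hJn : J.Normal := by
      rw [← Subgroup.normalizer_eq_top_iff, eq_top_iff, ← htop]
      refine sup_le Subgroup.le_normalizer fun c hc => ?_
      exact Subgroup.mem_normalizer_iff.2 fun x => ⟨hJfix c hc x, fun h => by
        have := hJfix c⁻¹ (by rw [map_inv, mem_fix.1 hc]) _ h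
        simpa [mul_assoc] using this⟩
    rw [eq_top_iff, ← S.top]
    refine (Subgroup.closure_le _).2 ?_
    rintro _ ⟨x, -, rfl⟩
    obtain ⟨j, hj, c, hc, rfl⟩ := Subgroup.mem_sup_of_normal_left.1 (htop ▸ Subgroup.mem_top x)
    refine hJT ?_
    rw [map_mul, mem_fix.1 hc, show (j * c)⁻¹ * (σ j * c) = c⁻¹ * (j⁻¹ * σ j) * c⁻¹⁻¹ by group]
    refine hJn.conj_mem _ (mul_mem (inv_mem hj) ?_) c⁻¹
    refine (show J ≤ J.comap (σ : H →* H) from iSup_le fun L => ?_) hj
    exact fun y hy => le_iSup (fun L : {L : Subgroup H // Inv σ L ∧ M ≤ L ∧ L ≠ ⊤} => tw σ L.1) L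
      (tw_inv L.2.1 y hy)
  haveI := Fact.mk hq
  set Q₀ : Subgroup H := (Q : Subgroup H) with hQ₀
  have hMl : IsPGroup l M := fun x => ⟨1, by
    rw [pow_one]; exact Subtype.ext (by simpa using hMexp x x.2)⟩
  have hql : q ≠ l := by
    rintro rfl
    have hMQ : M ≤ Q₀ := hMl.le_sylow_of_normal Q
    haveI hQn : Group.IsNilpotent Q₀ := Q.isPGroup'.isNilpotent
    have hQtop : Q₀ = ⊤ := by rw [← hQM, sup_eq_left.2 hMQ]
    haveI : Group.IsNilpotent H := Group.nilpotent_of_surjective Q₀.subtype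
      (fun x => ⟨⟨x, hQtop ▸ Subgroup.mem_top x⟩, rfl⟩)
    have hne := CfsgLib.Solvable.inf_center_ne_bot (N := M) hMne
    refine hnc (le_trans (le_of_eq ?_) (inf_le_right (a := M)))
    by_contra he
    refine hne (hmin _ (Subgroup.normal_inf_normal M _) (fun x hx => ⟨hMi x hx.1, ?_⟩) inf_le_left
      fun h => he h.symm)
    exact Subgroup.mem_center_iff.2 fun g => σ.symm.injective (by
      simpa using Subgroup.mem_center_iff.1 hx.2 (σ.symm g))
  have hdisj : ∀ x, x ∈ Q₀ → x ∈ M → x = 1 := fun x hxQ hxM => Subgroup.mem_bot.1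
    ((IsPGroup.disjoint_of_ne q l hql _ _ Q.isPGroup' hMl).le_bot ⟨hxQ, hxM⟩)
  have hQtop : Q₀ ≠ ⊤ := by
    intro h
    obtain ⟨x, hx⟩ := (Subgroup.ne_bot_iff_exists_ne_one).1 hMne
    exact hx (Subtype.ext (hdisj x (h ▸ Subgroup.mem_top _) x.2))
  have hdec : ∀ x : H, ∃ a ∈ Q₀, ∃ b ∈ M, a * b = x := fun x =>
    Subgroup.mem_sup_of_normal_right.1 (hQM ▸ Subgroup.mem_top x)
  -- `Q` is generated by its twists
  have hQtw : tw σ Q₀ = Q₀ := by
    refine le_antisymm (tw_le hQi) fun x hx => ?_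
    have hX : (⊤ : Subgroup H) ≤ tw σ Q₀ ⊔ M := by
      rw [← S.top]
      refine (Subgroup.closure_le _).2 ?_
      rintro _ ⟨y, -, rfl⟩
      obtain ⟨a, ha, b, hb, rfl⟩ := hdec y
      rw [map_mul, show (a * b)⁻¹ * (σ a * σ b) = (a⁻¹ * σ a) *
        ((a⁻¹ * σ a)⁻¹ * b⁻¹ * (a⁻¹ * σ a)⁻¹⁻¹ * σ b) by group]
      exact Subgroup.mul_mem_sup (mem_tw ha)
        (mul_mem ((inferInstance : M.Normal).conj_mem _ (inv_mem hb) _) (hMi b hb))
    obtain ⟨a, ha, b, hb, hab⟩ := Subgroup.mem_sup_of_normal_right.1 (hX (Subgroup.mem_top x))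
    have hb1 : b = 1 := hdisj b (by
      rw [show b = a⁻¹ * x by rw [← hab, inv_mul_cancel_left]]
      exact mul_mem (inv_mem (tw_le hQi ha)) hx) hb
    rwa [← hab, hb1, mul_one]
  have hCcore : ∀ c ∈ Q₀, σ c = c → c ∈ core σ := fun c hc hf =>
    S.sub Q₀ hQi hQtop c (hQtw.symm ▸ hc) hf
  have hCT : ∀ c ∈ Q₀, σ c = c → c ∈ T := by
    intro c hc hf m
    rw [hUdef, Subgroup.mem_comap, Subgroup.mem_subgroupOf, map_mul, map_inv]
    have he : (orbitProd τ p (MulAut.conjNormal c m) : M) =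
        MulAut.conjNormal c (orbitProd τ p m) := by
      show ∏ i ∈ Finset.range p, (τ ^ i) (MulAut.conjNormal c m) = _
      rw [show MulAut.conjNormal c (orbitProd τ p m) =
        MulAut.conjNormal c (∏ i ∈ Finset.range p, (τ ^ i) m) from rfl, map_prod]
      refine Finset.prod_congr rfl fun i _ => Subtype.ext ?_
      have hci : (σ ^ i) c = c := by
        clear * - hf
        induction i with
        | zero => rfl
        | succ i ih => rw [pow_succ', MulAut.mul_apply, ih, hf]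
      rw [restrict_pow, MulAut.conjNormal_apply, MulAut.conjNormal_apply, map_mul, map_mul, map_inv,
        hci, restrict_pow]
    rw [he, Subgroup.coe_mul, MulAut.conjNormal_apply, Subgroup.coe_inv,
      show c * (orbitProd τ p m : H) * c⁻¹ * (orbitProd τ p m : H)⁻¹ =
        c * ((orbitProd τ p m : H) * c⁻¹ * (orbitProd τ p m : H)⁻¹) by group]
    exact mul_mem (hCcore c hc hf) (conj_mem_core
      (congrArg Subtype.val (orbitProd_fixed hτp m)) (inv_mem (hCcore c hc hf)))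
  have hMT : M ≤ T := fun x hx m => by
    rw [show MulAut.conjNormal x m = m from Subtype.ext (by
      have := congrArg Subtype.val (mul_comm' (⟨x, hx⟩ : M) m)
      simp only [Subgroup.coe_mul] at this
      rw [MulAut.conjNormal_apply, this, mul_inv_cancel_right]), mul_inv_cancel]
    exact one_mem U
  -- invariant subgroups properly contained in `Q`
  have hlowT : ∀ L, Inv σ L → L ≤ Q₀ → L ≠ Q₀ → L ≤ T := by
    intro L hLi hLQ hLne x hx
    have hXi : Inv σ (L ⊔ M) := by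
      intro y hy
      obtain ⟨a, ha, b, hb, rfl⟩ := Subgroup.mem_sup_of_normal_right.1 hy
      rw [map_mul]
      exact Subgroup.mul_mem_sup (hLi a ha) (hMi b hb)
    have hXt : L ⊔ M ≠ ⊤ := by
      intro h
      refine hLne (le_antisymm hLQ fun y hy => ?_)
      obtain ⟨a, ha, b, hb, hab⟩ := Subgroup.mem_sup_of_normal_right.1 (h ▸ Subgroup.mem_top y)
      have hb1 : b = 1 := hdisj b (by
        rw [show b = a⁻¹ * y by rw [← hab, inv_mul_cancel_left]]
        exact mul_mem (inv_mem (hLQ ha)) hy) hb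
      rwa [← hab, hb1, mul_one]
    obtain ⟨c, t, hc, hcL, ht, rfl⟩ := exists_fixed_mul hσ hcop hLi hx
    exact mul_mem (hCT c (hLQ hcL) hc)
      (htwT _ hXi le_sup_right hXt (tw_mono le_sup_left ht))
  obtain ⟨g, hgQ, hgT⟩ : ∃ g ∈ Q₀, g ∉ T := by
    by_contra! h
    exact hTtop (eq_top_iff.2 (hQM ▸ sup_le h hMT))
  -- the restriction to `Q`
  set σQ := restrict σ Q₀ hQi with hσQdef
  have hQpow : σQ ^ p = 1 := restrict_pow_eq_one hQi hσ
  have hQcop : ¬ p ∣ Nat.card Q₀ := fun h => hcop (h.trans (Subgroup.card_subgroup_dvd_card _))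
  have hQtop' : tw σQ ⊤ = ⊤ := by
    rw [eq_top_iff]
    intro x _
    have h1 : (x : H) ∈ (tw σQ ⊤).map Q₀.subtype := by
      refine (show tw σ Q₀ ≤ (tw σQ ⊤).map Q₀.subtype from (Subgroup.closure_le _).2 ?_)
        (hQtw.symm ▸ x.2)
      rintro _ ⟨y, hy, rfl⟩
      exact ⟨_, mem_tw (σ := σQ) (Subgroup.mem_top (⟨y, hy⟩ : Q₀)), rfl⟩
    obtain ⟨y, hy, hyx⟩ := h1
    rwa [← Subtype.ext (show (y : H) = x from hyx)]
  set Φ : Subgroup Q₀ := frattini Q₀ with hΦdef
  have hΦi : Inv σQ Φ := fun x hx => by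
    have h := Subgroup.characteristic_iff_map_eq.1 (inferInstance : (frattini Q₀).Characteristic) σQ
    show σQ x ∈ frattini Q₀
    rw [← h]
    exact ⟨x, hx, rfl⟩
  have hΦc : commutator Q₀ ≤ Φ := CfsgLib.Solvable.commutator_le_frattini Q.isPGroup'
  have hΦne : Φ ≠ ⊤ := fun h => by
    have hb := frattini_nongenerating (G := Q₀) (K := ⊥) (by rw [bot_sup_eq, ← hΦdef, h])
    have hg1 : (⟨g, hgQ⟩ : Q₀) = 1 := Subgroup.mem_bot.1 (hb.ge (Subgroup.mem_top _))
    have hg1' : g = 1 := congrArg (fun v : Q₀ => (v : H)) hg1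
    exact hgT (by rw [hg1']; exact one_mem T)
  set Φ₀ := Φ.map Q₀.subtype with hΦ₀def
  have hΦ₀i : Inv σ Φ₀ := by
    rintro _ ⟨x, hx, rfl⟩
    exact ⟨σQ x, hΦi x hx, rfl⟩
  have hΦ₀T : Φ₀ ≤ T := hlowT _ hΦ₀i (Subgroup.map_subtype_le _) fun h => hΦne
    (Subgroup.map_injective Q₀.subtype_injective (by
      rw [← MonoidHom.range_eq_map, Subgroup.range_subtype]; exact h))
  -- so `Φ` centralises `M`
  set φ : Q₀ →* MulAut M := MulAut.conjNormal.comp Q₀.subtype with hφdef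
  have hφσ : ∀ x : Q₀, φ (σQ x) = τ * φ x * τ⁻¹ := fun x => by
    rw [eq_mul_inv_iff_mul_eq]
    refine MulEquiv.ext fun m => Subtype.ext ?_
    show σ (x : H) * σ (m : H) * (σ (x : H))⁻¹ = σ ((x : H) * (m : H) * (x : H)⁻¹)
    simp only [map_mul, map_inv]
  have hφker : ∀ x : Q₀, φ x = 1 ↔ ∀ m ∈ M, Commute (x : H) m := by
    intro x
    constructor
    · intro h m hm
      have h1 : φ x ⟨m, hm⟩ = ⟨m, hm⟩ := by rw [h]; rfl
      exact mul_inv_eq_iff_eq_mul.1 (congrArg Subtype.val h1 :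
        (x : H) * m * (x : H)⁻¹ = m)
    · intro h
      exact MulEquiv.ext fun m => Subtype.ext (mul_inv_eq_iff_eq_mul.2 (h m m.2))
  have hΦM : ∀ x ∈ Φ, φ x = 1 := by
    have hb : ⁅Φ₀, M⁆ = ⊥ := by
      refine hsmall _ ?_ (inv_closure ?_) (Subgroup.commutator_le_right Φ₀ M) fun x hx => ?_
      · refine ⟨fun x hx y => ?_⟩
        obtain ⟨a, ha, b, hb, rfl⟩ := hdec y
        have hxM : x ∈ M := Subgroup.commutator_le_right Φ₀ M hx
        have hbx : b * x * b⁻¹ = x := by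
          have := congrArg Subtype.val (mul_comm' (⟨b, hb⟩ : M) ⟨x, hxM⟩)
          simp only [Subgroup.coe_mul] at this
          rw [this, mul_inv_cancel_right]
        rw [show a * b * x * (a * b)⁻¹ = a * (b * x * b⁻¹) * a⁻¹ by group, hbx]
        refine (show ⁅Φ₀, M⁆ ≤ ⁅Φ₀, M⁆.comap (MulAut.conj a).toMonoidHom from ?_) hx
        rw [Subgroup.commutator_le]
        intro u hu v hv
        rw [Subgroup.mem_comap, map_commutatorElement]
        refine Subgroup.commutator_mem_commutator ?_ ((inferInstance : M.Normal).conj_mem v hv a)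
        obtain ⟨u', hu', rfl⟩ := hu
        exact ⟨(⟨a, ha⟩ : Q₀) * u' * (⟨a, ha⟩ : Q₀)⁻¹,
          (inferInstance : (frattini Q₀).Normal).conj_mem u' hu' _, rfl⟩
      · rintro _ ⟨a, ha, b, hb, rfl⟩
        rw [map_commutatorElement]
        exact Subgroup.commutator_mem_commutator (hΦ₀i a ha) (hMi b hb)
      · have hle : ⁅Φ₀, M⁆ ≤ U.map M.subtype := by
          rw [Subgroup.commutator_le]
          intro u hu m hm
          exact ⟨_, hΦ₀T hu ⟨m, hm⟩, by simp [commutatorElement_def]⟩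
        obtain ⟨y, hy, hyx⟩ := hle hx
        rwa [← Subtype.ext (show (y : H) = x from hyx)]
    intro x hx
    rw [hφker]
    intro m hm
    have := Subgroup.commutator_mem_commutator (show (x : H) ∈ Φ₀ from ⟨x, hx, rfl⟩) hm
    rw [hb, Subgroup.mem_bot, commutatorElement_eq_one_iff_mul_comm] at this
    exact this
  have hkerc : commutator Q₀ ≤ φ.ker := fun x hx => hΦM x (hΦc hx)
  have hCMQ : ∀ m ∈ M, (∀ x : Q₀, Commute (x : H) m) → m = 1 := by
    intro m hm hc
    have hmC : ∀ y : H, Commute y m := by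
      intro y
      obtain ⟨a, ha, b, hb, rfl⟩ := hdec y
      exact (hc ⟨a, ha⟩).mul_left (congrArg Subtype.val (mul_comm' (⟨b, hb⟩ : M) ⟨m, hm⟩))
    have hZ : M ⊓ Subgroup.center H = ⊥ := hmin _ (Subgroup.normal_inf_normal M _)
      (fun x hx => ⟨hMi x hx.1, Subgroup.mem_center_iff.2 fun g => σ.symm.injective (by
        simpa using Subgroup.mem_center_iff.1 hx.2 (σ.symm g))⟩) inf_le_left
      (fun h => hnc (h ▸ inf_le_right))
    exact Subgroup.mem_bot.1 (hZ ▸ ⟨hm, Subgroup.mem_center_iff.2 fun g => (hmC g).eq⟩)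
  -- the orders of the fixed points
  have hcount : Nat.card {m : M // τ m = m} ^ p = Nat.card M := by
    refine card_fixed_pow (l := l) (fun m => Subtype.ext (by simpa using hMexp m m.2)) φ.range τ hτp
      ?_ ?_ ?_ ?_ ?_ ?_
    · intro h1
      refine hnc (S.central_of_fixed fun v hv => ?_)
      exact congrArg Subtype.val (DFunLike.congr_fun h1 ⟨v, hv⟩)
    · rintro _ ⟨a, rfl⟩ _ ⟨b, rfl⟩
      have h1 : φ ⁅a, b⁆ = 1 :=
        hkerc (Subgroup.commutator_mem_commutator (Subgroup.mem_top a) (Subgroup.mem_top b))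
      rw [map_commutatorElement, commutatorElement_eq_one_iff_mul_comm] at h1
      exact h1
    · rintro _ ⟨a, rfl⟩
      exact ⟨σQ a, hφσ a⟩
    · rintro _ ⟨a, rfl⟩ ha
      refine MonoidHom.mem_ker.1 (mem_of_fixed_of_comm hQpow hQcop hQtop' (fun x hx => ?_) hkerc ?_)
      · rw [MonoidHom.mem_ker, hφσ, MonoidHom.mem_ker.1 hx, mul_one, mul_inv_cancel]
      · rw [MonoidHom.mem_ker, map_mul, map_inv, hφσ, ha, mul_inv_cancel_right, inv_mul_cancel]
    · intro hd
      obtain ⟨k, hk⟩ := IsPGroup.iff_card.1 Q.isPGroup'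
      exact hql ((Nat.prime_dvd_prime_iff_eq hl hq).1
        (hl.dvd_of_dvd_pow (hk ▸ hd.trans (Subgroup.card_range_dvd φ)))).symm
    · intro m hm
      exact Subtype.ext (hCMQ m m.2 fun x => mul_inv_eq_iff_eq_mul.1
        (congrArg Subtype.val (hm (φ x) ⟨x, rfl⟩) : (x : H) * m * (x : H)⁻¹ = m))
  -- the twists of `g` generate `Q`
  have hgenQ : gen σ g = Q₀ := by
    have hle : gen σ g ≤ Q₀ := (gen_le_tw hQi hgQ).trans (tw_le hQi)
    have hPi : Inv σQ (Φ ⊔ (gen σ g).subgroupOf Q₀) := by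
      intro x hx
      obtain ⟨a, ha, b, hb, rfl⟩ := Subgroup.mem_sup_of_normal_left.1 hx
      rw [map_mul]
      exact Subgroup.mul_mem_sup (hΦi a ha) (gen_inv g (b : H) hb)
    have hd1 : ((⟨g, hgQ⟩ : Q₀)⁻¹ * σQ ⟨g, hgQ⟩) ∈ (gen σ g).subgroupOf Q₀ := by
      rw [Subgroup.mem_subgroupOf]
      show g⁻¹ * σ g ∈ gen σ g
      simpa using mem_gen σ g 1
    have htopP : Φ ⊔ (gen σ g).subgroupOf Q₀ = ⊤ := by
      refine gen_eq_top_of_twist hQtop' hPi (hΦc.trans le_sup_left)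
        (h := ⟨g, hgQ⟩) (Subgroup.mem_sup_right hd1) ?_
      set L := (Φ ⊔ (gen σ g).subgroupOf Q₀) ⊔ Subgroup.zpowers (⟨g, hgQ⟩ : Q₀) with hLdef
      have hLi : Inv σQ L := by
        have hz : Subgroup.zpowers (⟨g, hgQ⟩ : Q₀) ≤ L.comap (σQ : Q₀ →* Q₀) := by
          rw [Subgroup.zpowers_le, Subgroup.mem_comap]
          have := L.mul_mem (Subgroup.mem_sup_right (Subgroup.mem_zpowers (⟨g, hgQ⟩ : Q₀)))
            (Subgroup.mem_sup_left (Subgroup.mem_sup_right hd1))
          rwa [mul_inv_cancel_left] at this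
        exact fun x hx => (sup_le (fun y hy => Subgroup.mem_sup_left (hPi y hy)) hz :
          L ≤ L.comap (σQ : Q₀ →* Q₀)) hx
      by_contra hL
      refine hgT (hlowT (L.map Q₀.subtype) ?_ (Subgroup.map_subtype_le _) (fun h => hL ?_)
        ⟨⟨g, hgQ⟩, Subgroup.mem_sup_right (Subgroup.mem_zpowers _), rfl⟩)
      · rintro _ ⟨x, hx, rfl⟩
        exact ⟨σQ x, hLi x hx, rfl⟩
      · exact Subgroup.map_injective Q₀.subtype_injective (by
          rw [← MonoidHom.range_eq_map, Subgroup.range_subtype]; exact h)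
    have h1 := frattini_nongenerating (G := Q₀) (K := (gen σ g).subgroupOf Q₀)
      (by rw [sup_comm]; exact htopP)
    exact le_antisymm hle (Subgroup.subgroupOf_eq_top.1 h1)
  -- every element of `M` is a product of conjugates of fixed elements
  have hprod : ∀ m : M, ∃ a b : {v : M // τ v = v},
      m = MulAut.conjNormal g⁻¹ a.1 * b.1 := by
    intro m
    set h := g * (m : H) with hh
    have hY : gen σ h ⊔ M = ⊤ := by
      rw [eq_top_iff, ← hQM]
      refine sup_le ?_ le_sup_right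
      rw [← hgenQ]
      refine (Subgroup.closure_le _).2 ?_
      rintro _ ⟨i, rfl⟩
      rw [SetLike.mem_coe, show g⁻¹ * (σ ^ i) g =
        (m : H) * (h⁻¹ * (σ ^ i) h) * ((σ ^ i) (m : H))⁻¹ by rw [hh, map_mul]; group]
      exact mul_mem (mul_mem (Subgroup.mem_sup_right m.2) (Subgroup.mem_sup_left (mem_gen σ h i)))
        (Subgroup.mem_sup_right (inv_mem (pow_mem_inv hMi i m.2)))
    have hdM : ∀ x, x ∈ gen σ h → x ∈ M → x = 1 := by
      have hN : gen σ h ⊓ M = ⊥ := by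
        refine hmin _ ⟨fun x hx y => ?_⟩ (fun x hx => ⟨gen_inv h x hx.1, hMi x hx.2⟩) inf_le_right
          fun he => ?_
        · obtain ⟨a, ha, b, hb, rfl⟩ :=
            Subgroup.mem_sup_of_normal_right.1 (hY ▸ Subgroup.mem_top y)
          have hbx : b * x * b⁻¹ = x := by
            have := congrArg Subtype.val (mul_comm' (⟨b, hb⟩ : M) ⟨x, hx.2⟩)
            simp only [Subgroup.coe_mul] at this
            rw [this, mul_inv_cancel_right]
          rw [show a * b * x * (a * b)⁻¹ = a * (b * x * b⁻¹) * a⁻¹ by group, hbx]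
          exact ⟨(gen σ h).mul_mem ((gen σ h).mul_mem ha hx.1) ((gen σ h).inv_mem ha),
            (inferInstance : M.Normal).conj_mem x hx.2 a⟩
        · refine hbad (S.core_of_gen (h := h) ?_ hm₀f)
          rw [← hY, sup_eq_left.2 (he.ge.trans inf_le_left)]
      exact fun x h1 h2 => Subgroup.mem_bot.1 (hN ▸ ⟨h1, h2⟩)
    have hcard : Nat.card (gen σ h) = Nat.card Q₀ := by
      have h1 := CfsgLib.Solvable.card_sup_of_disjoint M (gen σ h)
        (Subgroup.disjoint_def.2 fun {x} h1 h2 => hdM x h1 h2)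
      have h2 := CfsgLib.Solvable.card_sup_of_disjoint M Q₀
        (Subgroup.disjoint_def.2 fun {x} h1 h2 => hdisj x h1 h2)
      rw [hY] at h1
      rw [hQM] at h2
      exact Nat.eq_of_mul_eq_mul_right Nat.card_pos (h1.symm.trans h2)
    obtain ⟨k, hk⟩ := IsPGroup.iff_card.1 Q.isPGroup'
    obtain ⟨P, hP⟩ := (IsPGroup.of_card (hcard.trans hk) : IsPGroup q (gen σ h)).exists_le_sylow
    have hPeq : gen σ h = (P : Subgroup H) :=
      Subgroup.eq_of_le_of_card_ge hP (by rw [hcard, P.card_eq_multiplicity, Q.card_eq_multiplicity])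
    obtain ⟨y, hy⟩ := MulAction.exists_smul_eq H Q P
    obtain ⟨a, ha, b, hb, hab⟩ := hdec y
    set c := a * b * a⁻¹ with hc
    have hcM : c ∈ M := (inferInstance : M.Normal).conj_mem b hb a
    have hmemT : ∀ x, x ∈ gen σ h ↔ c⁻¹ * x * c ∈ Q₀ := by
      intro x
      rw [hPeq, ← hy, Sylow.coe_subgroup_smul, CfsgLib.Solvable.mem_conj_smul, ← hab,
        show (a * b)⁻¹ * x * (a * b) = a⁻¹ * (c⁻¹ * x * c) * a by rw [hc]; group]
      constructor
      · intro h1
        have := mul_mem (mul_mem ha h1) (inv_mem ha)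
        simpa [mul_assoc] using this
      · exact fun h1 => mul_mem (mul_mem (inv_mem ha) h1) ha
    set e := c⁻¹ * σ c with he
    have heM : e ∈ M := mul_mem (inv_mem hcM) (hMi c hcM)
    have he1 : e = 1 := by
      refine hCMQ e heM fun x => ?_
      obtain ⟨x', hx', hxx⟩ : ∃ x' ∈ Q₀, σ x' = x := by
        have hb' : Function.Bijective σQ := σQ.bijective
        obtain ⟨x', hx'⟩ := hb'.2 x
        exact ⟨x', x'.2, congrArg Subtype.val hx'⟩
      have hxT : c * x' * c⁻¹ ∈ gen σ h := by rw [hmemT]; simpa [mul_assoc] using hx'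
      have h1 := (hmemT _).1 (gen_inv h _ hxT)
      rw [map_mul, map_mul, map_inv, hxx, show c⁻¹ * (σ c * (x : H) * (σ c)⁻¹) * c =
        e * x * e⁻¹ by rw [he]; group] at h1
      have h2 : e * x * e⁻¹ * (x : H)⁻¹ = 1 := hdisj _ (mul_mem h1 (inv_mem x.2)) (by
        rw [show e * (x : H) * e⁻¹ * (x : H)⁻¹ = e * ((x : H) * e⁻¹ * (x : H)⁻¹) by group]
        exact mul_mem heM ((inferInstance : M.Normal).conj_mem _ (inv_mem heM) x))
      rw [mul_inv_eq_one, mul_inv_eq_iff_eq_mul] at h2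
      exact h2.symm
    have hcf : σ c = c := by
      rw [he, inv_mul_eq_one] at he1
      exact he1.symm
    -- read off the first twist
    set d₀ := g⁻¹ * σ g with hd₀
    have hd₀Q : d₀ ∈ Q₀ := mul_mem (inv_mem hgQ) (hQi g hgQ)
    set w := (m : H) * c with hw
    have hwM : w ∈ M := mul_mem m.2 hcM
    have hx0 : c⁻¹ * (h⁻¹ * σ h) * c ∈ Q₀ := (hmemT _).1 (by simpa using mem_gen σ h 1)
    rw [show c⁻¹ * (h⁻¹ * σ h) * c = d₀ * (d₀⁻¹ * w⁻¹ * d₀ * σ w) by
      rw [hh, hw, hd₀, map_mul, map_mul, hcf]; group] at hx0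
    have hone : d₀⁻¹ * w⁻¹ * d₀ * σ w = 1 := by
      refine hdisj _ ?_ (mul_mem ?_ (hMi w hwM))
      · simpa using mul_mem (inv_mem hd₀Q) hx0
      · simpa using (inferInstance : M.Normal).conj_mem _ (inv_mem hwM) d₀⁻¹
    have hσw : σ w = d₀⁻¹ * w * d₀ := by
      rw [eq_comm, ← inv_inj] at hone
      have := mul_eq_one_iff_eq_inv.1 (inv_inj.1 hone).symm
      calc σ w = (d₀⁻¹ * w⁻¹ * d₀)⁻¹ * (d₀⁻¹ * w⁻¹ * d₀ * σ w) := by group
        _ = (d₀⁻¹ * w⁻¹ * d₀)⁻¹ := by rw [this, inv_mul_cancel, mul_one]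
        _ = d₀⁻¹ * w * d₀ := by group
    set z := g * w * g⁻¹ with hz
    have hzf : σ z = z := by
      rw [hz, map_mul, map_mul, map_inv, hσw, hd₀]
      group
    refine ⟨⟨⟨z, (inferInstance : M.Normal).conj_mem w hwM g⟩, Subtype.ext hzf⟩,
      ⟨⟨c⁻¹, inv_mem hcM⟩, Subtype.ext (by show σ c⁻¹ = c⁻¹; rw [map_inv, hcf])⟩, Subtype.ext ?_⟩
    show (m : H) = g⁻¹ * z * g⁻¹⁻¹ * c⁻¹
    rw [hz, hw]
    group
  have hle : Nat.card M ≤ Nat.card {m : M // τ m = m} * Nat.card {m : M // τ m = m} := by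
    rw [← Nat.card_prod]
    refine Nat.card_le_card_of_surjective
      (fun ab : {v : M // τ v = v} × {v : M // τ v = v} => MulAut.conjNormal g⁻¹ ab.1.1 * ab.2.1)
      fun m => ?_
    obtain ⟨a, b, hab⟩ := hprod m
    exact ⟨(a, b), hab.symm⟩
  rw [← hcount, ← pow_two] at hle
  have h2 : 2 ≤ Nat.card {m : M // τ m = m} := by
    haveI : Nontrivial {m : M // τ m = m} :=
      ⟨⟨⟨⟨m₀, hm₀⟩, Subtype.ext hm₀f⟩, ⟨1, map_one τ⟩, fun h => hbad (by
        rw [show m₀ = 1 from congrArg (fun v : {m : M // τ m = m} => ((v.1 : M) : H)) h]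
        exact one_mem _)⟩⟩
    exact Finite.one_lt_card
  have hp3 : 3 ≤ p := by have := hp.out.two_le; omega
  exact absurd hle (Nat.not_le.2 (Nat.pow_lt_pow_right (by omega) (by omega)))

end Step

end CfsgLib.FixedTwist
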