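import Mathlib
import Cfsg.Agent.FixedTwist.Main

/-!
Fixed points in `[H, σ]`: the central case and the conclusion.
-/

set_option autoImplicit false
set_option linter.style.haveILetI false
set_option linter.unusedSectionVars false
set_option linter.unusedVariables false

open scoped commutatorElement IsMulCommutative Pointwise

namespace CfsgLib.FixedTwist

universe u

variable {H : Type u} [Group H] [Finite H] {σ : MulAut H} {p : ℕ} [hp : Fact p.Prime]

theorem comm_mul_left_of_central {x y z : H} (h : ⁅y, z⁆ ∈ Subgroup.center H) :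
    ⁅x * y, z⁆ = ⁅x, z⁆ * ⁅y, z⁆ := by
  have e1 : ⁅x * y, z⁆ = x * ⁅y, z⁆ * x⁻¹ * ⁅x, z⁆ := by simp only [commutatorElement_def]; group
  rw [e1, Subgroup.mem_center_iff.1 h x, mul_inv_cancel_right, Subgroup.mem_center_iff.1 h ⁅x, z⁆]

theorem comm_mul_right_of_central {x y z : H} (h : ⁅x, z⁆ ∈ Subgroup.center H) :
    ⁅x, y * z⁆ = ⁅x, y⁆ * ⁅x, z⁆ := by
  have e1 : ⁅x, y * z⁆ = ⁅x, y⁆ * (y * ⁅x, z⁆ * y⁻¹) := by simp only [commutatorElement_def]; group
  rw [e1, Subgroup.mem_center_iff.1 h y, mul_inv_cancel_right]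

namespace Step

variable (S : Step σ p)
include S

/-- The central case. -/
theorem central (hp2 : p ≠ 2) {M : Subgroup H} [M.Normal] {l : ℕ}
    (hl : l.Prime) (hMexp : ∀ x ∈ M, x ^ l = 1)
    (hmin : ∀ L : Subgroup H, L.Normal → Inv σ L → L ≤ M → L ≠ M → L = ⊥)
    (hMc : M ≤ Subgroup.center H) : ∀ m ∈ M, σ m = m → m ∈ core σ := by
  classical
  haveI := Fact.mk hl
  intro m₀ hm₀ hm₀f
  by_contra hbad
  have hσ := S.pow_eq
  have hcop := S.cop
  have hnormal : ∀ {L : Subgroup H}, L ≤ Subgroup.center H → L.Normal := fun hL => ⟨fun x hx g => by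
    rwa [Subgroup.mem_center_iff.1 (hL hx) g, mul_inv_cancel_right]⟩
  -- `M` is fixed and meets the core trivially
  have hm1 : m₀ ≠ 1 := fun h => hbad (by rw [h]; exact one_mem _)
  have hMfix : ∀ x ∈ M, σ x = x := by
    have he : M ⊓ fix σ = M := by
      by_contra he
      have h1 := hmin (M ⊓ fix σ) (hnormal (inf_le_left.trans hMc))
        (fun x hx => by rw [mem_fix.1 hx.2]; exact hx) inf_le_left he
      exact hm1 (Subgroup.mem_bot.1 (h1.le ⟨hm₀, hm₀f⟩))
    exact fun x hx => mem_fix.1 (he.ge hx).2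
  have hMi : Inv σ M := fun x hx => by rw [hMfix x hx]; exact hx
  have hMcore : ∀ x ∈ M, x ∈ core σ → x = 1 := by
    have he : M ⊓ core σ = ⊥ := by
      refine hmin _ (hnormal (inf_le_left.trans hMc))
        (fun x hx => by rw [hMfix x hx.1]; exact hx) inf_le_left fun he => hbad ?_
      exact (he.ge hm₀).2
    exact fun x h1 h2 => Subgroup.mem_bot.1 (he.le ⟨h1, h2⟩)
  have hMne : M ≠ ⊥ := fun h => hm1 (Subgroup.mem_bot.1 (h.le hm₀))
  -- the part of a proper invariant subgroup prime to `M`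
  let R : Subgroup H → Subgroup H := fun L => tw σ L ⊔ (core σ ⊓ L)
  have hRle : ∀ L, Inv σ L → R L ≤ L := fun L hL => sup_le (tw_le hL) inf_le_right
  have hRmem : ∀ L, Inv σ L → ∀ x ∈ R L, ∃ a d, a ∈ tw σ L ∧ d ∈ core σ ∧ d ∈ L ∧ x = a * d := by
    intro L hL x hx
    have hn : core σ ⊓ L ≤ Subgroup.normalizer (tw σ L : Set H) := fun d hd =>
      Subgroup.mem_normalizer_iff.2 fun y => ⟨fun h => conj_mem_tw hL hd.2 h, fun h => by
        have := conj_mem_tw hL (L.inv_mem hd.2) h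
        simpa [mul_assoc] using this⟩
    have hx' : x ∈ (tw σ L : Set H) * ((core σ ⊓ L : Subgroup H) : Set H) := by
      rw [← Subgroup.coe_mul_of_right_le_normalizer_left _ _ hn]
      exact hx
    obtain ⟨a, ha, d, hd, rfl⟩ := Set.mem_mul.1 hx'
    exact ⟨a, d, ha, hd.1, hd.2, rfl⟩
  have hRM : ∀ L, Inv σ L → L ≠ ⊤ → ∀ x ∈ R L, x ∈ M → x = 1 := by
    intro L hL hLt x hx hxM
    obtain ⟨a, d, ha, hd, -, rfl⟩ := hRmem L hL x hx
    have haf : σ a = a := by
      have h1 := hMfix _ hxM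
      rw [map_mul, mem_fix.1 (core_le_fix hd)] at h1
      exact mul_right_cancel h1
    exact hMcore _ hxM (mul_mem (S.sub L hL hLt a ha haf) hd)
  have hdec : ∀ L, Inv σ L → M ≤ L → ∀ x ∈ L, ∃ r m, r ∈ R L ∧ m ∈ M ∧ x = r * m := by
    intro L hL hML x hx
    obtain ⟨c, t, hc, hcL, ht, rfl⟩ := exists_fixed_mul hσ hcop hL hx
    obtain ⟨d, m, hd, hm, -, rfl⟩ := S.quot M inferInstance hMi hMne c hc
    have hdL : d ∈ L := by simpa using mul_mem hcL (inv_mem (hML hm))
    refine ⟨d * t, m, mul_mem (Subgroup.mem_sup_right ⟨hd, hdL⟩) (Subgroup.mem_sup_left ht), hm, ?_⟩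
    rw [mul_assoc, mul_assoc, Subgroup.mem_center_iff.1 (hMc hm) t]
  have hcommR : ∀ L, Inv σ L → M ≤ L → ∀ a ∈ L, ∀ b ∈ L, ⁅a, b⁆ ∈ R L := by
    intro L hL hML a ha b hb
    obtain ⟨r, m, hr, hm, rfl⟩ := hdec L hL hML a ha
    obtain ⟨r', m', hr', hm', rfl⟩ := hdec L hL hML b hb
    have hc1 : ∀ {m : H}, m ∈ M → ∀ y : H, ⁅m, y⁆ = 1 := fun hm y =>
      commutatorElement_eq_one_iff_mul_comm.2 (Subgroup.mem_center_iff.1 (hMc hm) y).symm
    have hc2 : ∀ {m : H}, m ∈ M → ∀ y : H, ⁅y, m⁆ = 1 := fun hm y =>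
      commutatorElement_eq_one_iff_mul_comm.2 (Subgroup.mem_center_iff.1 (hMc hm) y)
    rw [comm_mul_left_of_central (by rw [hc1 hm]; exact one_mem _), hc1 hm, mul_one,
      comm_mul_right_of_central (by rw [hc2 hm']; exact one_mem _), hc2 hm', mul_one]
    rw [commutatorElement_def]
    exact mul_mem (mul_mem (mul_mem hr hr') (inv_mem hr)) (inv_mem hr')
  have hMH' : ∀ m ∈ M, m ∈ commutator H := fun m hm => by
    have hi : Inv σ (commutator H) := by
      intro x hx
      have h := Subgroup.characteristic_iff_map_eq.1 (inferInstance : (commutator H).Characteristic) σ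
      rw [← h]
      exact ⟨x, hx, rfl⟩
    exact mem_of_fixed_of_comm hσ hcop S.top hi le_rfl
      (by rw [hMfix m hm, inv_mul_cancel]; exact one_mem _)
  -- `H` is an `l`-group
  have hHl : IsPGroup l H := by
    obtain ⟨Q, hQi⟩ := exists_inv_sylow hσ hcop l
    by_cases hQt : (Q : Subgroup H) = ⊤
    · exact Q.isPGroup'.of_equiv ((MulEquiv.subgroupCongr hQt).trans Subgroup.topEquiv)
    exfalso
    have hMl : IsPGroup l M := fun x => ⟨1, by
      rw [pow_one]; exact Subtype.ext (by simpa using hMexp x x.2)⟩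
    have hMQ : M ≤ (Q : Subgroup H) := hMl.le_sylow_of_normal Q
    have key : ∀ (k : ℕ) (g₀ : H), g₀⁻¹ * m₀ ^ k * g₀ ∈ (Q : Subgroup H) →
        g₀⁻¹ * m₀ ^ k * g₀ = m₀ ^ k := fun k g₀ _ => by
      rw [mul_assoc, ← Subgroup.mem_center_iff.1 (pow_mem (hMc hm₀) k) g₀, inv_mul_cancel_left]
    let f : (Q : Subgroup H) →* Abelianization (Q : Subgroup H) := Abelianization.of
    have h1 := MonoidHom.transfer_eq_pow f m₀ key
    rw [Abelianization.commutator_subset_ker f.transfer (hMH' m₀ hm₀)] at h1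
    have h2 : m₀ ^ (Q : Subgroup H).index ∈ R (Q : Subgroup H) := by
      have h3 := (QuotientGroup.eq_one_iff _).1 h1.symm
      have h4 : (commutator (Q : Subgroup H)).map (Q : Subgroup H).subtype ≤ R (Q : Subgroup H) := by
        rw [Subgroup.map_subtype_commutator, Subgroup.commutator_le]
        exact fun a ha b hb => hcommR _ hQi hMQ a ha b hb
      exact h4 ⟨_, h3, rfl⟩
    have h5 := hRM _ hQi hQt _ h2 (pow_mem hm₀ _)
    have hnd : ¬ l ∣ (Q : Subgroup H).index := Q.not_dvd_index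
    exact hm1 (orderOf_eq_one_iff.1 (Nat.eq_one_of_dvd_coprimes
      ((hl.coprime_iff_not_dvd).2 hnd) (orderOf_dvd_of_pow_eq_one (hMexp m₀ hm₀))
      (orderOf_dvd_of_pow_eq_one h5)))
  haveI : Group.IsNilpotent H := hHl.isNilpotent
  -- the Frattini subgroup
  set Φ := frattini H with hΦdef
  have hΦc : commutator H ≤ Φ := CfsgLib.Solvable.commutator_le_frattini hHl
  have hMΦ : M ≤ Φ := fun m hm => hΦc (hMH' m hm)
  have hΦi : Inv σ Φ := fun x hx => by
    have h := Subgroup.characteristic_iff_map_eq.1 (inferInstance : (frattini H).Characteristic) σ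
    show σ x ∈ frattini H
    rw [← h]
    exact ⟨x, hx, rfl⟩
  have hΦt : Φ ≠ ⊤ := fun h => by
    have hb := frattini_nongenerating (G := H) (K := ⊥) (by rw [bot_sup_eq, ← hΦdef, h])
    exact hm1 (Subgroup.mem_bot.1 (hb.ge (Subgroup.mem_top m₀)))
  have hself : ∀ h : H, ⁅h, σ h⁆ ∈ R Φ := by
    intro h
    set L := (Φ ⊔ gen σ h) ⊔ Subgroup.zpowers h with hLdef
    have hPi : Inv σ (Φ ⊔ gen σ h) := by
      intro x hx
      obtain ⟨a, ha, b, hb, rfl⟩ := Subgroup.mem_sup_of_normal_left.1 hx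
      rw [map_mul]
      exact Subgroup.mul_mem_sup (hΦi a ha) (gen_inv h b hb)
    have hd1 : h⁻¹ * σ h ∈ gen σ h := by simpa using mem_gen σ h 1
    have hσh : σ h ∈ L := by
      have := L.mul_mem (Subgroup.mem_sup_right (Subgroup.mem_zpowers h))
        (Subgroup.mem_sup_left (Subgroup.mem_sup_right hd1))
      rwa [mul_inv_cancel_left] at this
    have hLi : Inv σ L := by
      have hz : Subgroup.zpowers h ≤ L.comap (σ : H →* H) := by
        rw [Subgroup.zpowers_le, Subgroup.mem_comap]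
        exact hσh
      exact fun x hx => (sup_le (fun y hy => Subgroup.mem_sup_left (hPi y hy)) hz :
        L ≤ L.comap (σ : H →* H)) hx
    have hΦL : Φ ≤ L := le_sup_left.trans le_sup_left
    by_cases hLt : L = ⊤
    · exfalso
      have hP : Φ ⊔ gen σ h = ⊤ := gen_eq_top_of_twist S.top hPi (hΦc.trans le_sup_left)
        (Subgroup.mem_sup_right hd1) hLt
      exact hbad (S.core_of_gen (frattini_nongenerating (G := H) (K := gen σ h)
        (by rw [sup_comm]; exact hP)) hm₀f)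
    · have hR := hcommR L hLi (hMΦ.trans hΦL) h (Subgroup.mem_sup_right (Subgroup.mem_zpowers h))
        (σ h) hσh
      obtain ⟨r, m, hr, hm, hrm⟩ := hdec Φ hΦi hMΦ _
        (hΦc (Subgroup.commutator_mem_commutator (Subgroup.mem_top h) (Subgroup.mem_top (σ h))))
      have hrL : r ∈ R L := (sup_le_sup (tw_mono hΦL) (inf_le_inf_left _ hΦL)) hr
      have hm1' : m = 1 := hRM L hLi hLt m (by
        rw [show m = r⁻¹ * ⁅h, σ h⁆ by rw [hrm, inv_mul_cancel_left]]
        exact mul_mem (inv_mem hrL) hR) hm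
      rw [hrm, hm1', mul_one]
      exact hr
  -- fixed central elements
  have hZfix : ∀ z ∈ Subgroup.center H, σ z = z → z ∈ M := by
    intro z hz hzf
    have hcore : ∀ x ∈ Subgroup.center H, x ∈ core σ → x = 1 := by
      intro x hx hxc
      by_contra hx1
      have hN : Subgroup.center H ⊓ core σ ≠ ⊥ := fun h => hx1 (Subgroup.mem_bot.1 (h.le ⟨hx, hxc⟩))
      obtain ⟨d, n, hd, hn, -, hdn⟩ := S.quot _ (hnormal inf_le_left)
        (fun y hy => by rw [mem_fix.1 (core_le_fix hy.2)]; exact hy) hN m₀ hm₀f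
      exact hbad (hdn ▸ mul_mem hd hn.2)
    obtain ⟨d, n, hd, hn, -, hdn⟩ := S.quot M inferInstance hMi hMne z hzf
    have hd1 : d = 1 := hcore d (by
      rw [show d = z * n⁻¹ by rw [hdn, mul_inv_cancel_right]]
      exact mul_mem hz (inv_mem (hMc hn))) hd
    rw [hdn, hd1, one_mul]
    exact hn
  -- a minimal normal invariant subgroup which is not fixed
  obtain ⟨W, ⟨hWn, hWi, hWf⟩, hWmin⟩ := (wellFounded_lt (α := Subgroup H)).has_min
    {N | N.Normal ∧ Inv σ N ∧ ¬ N ≤ fix σ} ⟨⊤, inferInstance, fun x _ => Subgroup.mem_top _, fun h =>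
      hm1 (Subgroup.mem_bot.1 ((show tw σ ⊤ ≤ ⊥ from (Subgroup.closure_le _).2 fun y hy => by
        obtain ⟨l, -, rfl⟩ := hy
        show l⁻¹ * σ l = 1
        rw [mem_fix.1 (h (Subgroup.mem_top l)), inv_mul_cancel]) (S.top.ge (Subgroup.mem_top m₀))))⟩
  haveI := hWn
  have hWne : W ≠ ⊥ := fun h => hWf (h ▸ bot_le)
  have hlt : ⁅W, (⊤ : Subgroup H)⁆ < W :=
    lt_of_le_of_ne (Subgroup.commutator_le_left W ⊤) (commutator_ne_self hWne)
  have hWtopi : Inv σ ⁅W, (⊤ : Subgroup H)⁆ := by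
    refine inv_closure ?_
    rintro _ ⟨a, ha, b, -, rfl⟩
    rw [map_commutatorElement]
    exact Subgroup.commutator_mem_commutator (hWi a ha) (Subgroup.mem_top _)
  have hWM : ⁅W, (⊤ : Subgroup H)⁆ ≤ M := by
    have hf : ⁅W, (⊤ : Subgroup H)⁆ ≤ fix σ := by
      by_contra hf
      exact hWmin _ ⟨inferInstance, hWtopi, hf⟩ hlt
    have hcen := S.central_of_fixed (V := ⁅W, (⊤ : Subgroup H)⁆) fun v hv => mem_fix.1 (hf hv)
    exact fun x hx => hZfix x (hcen hx) (mem_fix.1 (hf hx))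
  have hWl : ∀ w ∈ W, ∀ h, ⁅w, h⁆ ∈ M :=
    fun w hw h => hWM (Subgroup.commutator_mem_commutator hw (Subgroup.mem_top h))
  have hWr : ∀ w ∈ W, ∀ h, ⁅h, w⁆ ∈ M := fun w hw h => by
    rw [← commutatorElement_inv]
    exact inv_mem (hWl w hw h)
  have hex : ∀ b : H, ∀ w ∈ W, ⁅b, σ w⁆ * (⁅w, σ b⁆ * ⁅w, σ w⁆) = 1 := by
    intro b w hw
    refine hRM Φ hΦi hΦt _ ?_ (mul_mem (hWr _ (hWi w hw) b) (mul_mem (hWl w hw _) (hWl w hw _)))
    have e : ⁅b * w, σ (b * w)⁆ = ⁅b, σ b⁆ * (⁅b, σ w⁆ * (⁅w, σ b⁆ * ⁅w, σ w⁆)) := by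
      rw [map_mul, comm_mul_left_of_central (hMc (hWl w hw _)),
        comm_mul_right_of_central (hMc (hWr _ (hWi w hw) b)),
        comm_mul_right_of_central (hMc (hWl w hw _)), mul_assoc]
    have h1 := mul_mem (inv_mem (hself b)) (hself (b * w))
    rwa [e, inv_mul_cancel_left] at h1
  have hsym : ∀ b : H, ∀ w ∈ W, ⁅b, σ w⁆ = ⁅σ b, w⁆ := by
    intro b w hw
    have h2 := hex 1 w hw
    simp only [map_one, commutatorElement_one_left, commutatorElement_one_right, one_mul] at h2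
    have h1 := hex b w hw
    rw [h2, mul_one] at h1
    rw [eq_inv_of_mul_eq_one_left h1, commutatorElement_inv]
  -- so `σ ^ 2` commutators centralise `W`
  set K := Subgroup.centralizer (W : Set H) with hK
  have hK2 : tw (σ ^ 2) ⊤ ≤ K := by
    refine (Subgroup.closure_le _).2 ?_
    rintro _ ⟨b, -, rfl⟩
    rw [SetLike.mem_coe, hK, Subgroup.mem_centralizer_iff]
    intro w hw
    have h1 : ⁅(σ ^ 2) b, w⁆ = ⁅b, w⁆ := by
      have h2 := hsym (σ b) w hw
      rw [← map_commutatorElement, hMfix _ (hWr w hw b), ← MulAut.mul_apply, ← pow_two] at h2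
      exact h2.symm
    have h3 : ⁅b⁻¹ * (σ ^ 2) b, w⁆ = 1 := by
      rw [comm_mul_left_of_central (hMc (hWr w hw _)), h1,
        ← comm_mul_left_of_central (hMc (hWr w hw _)), inv_mul_cancel, commutatorElement_one_left]
    exact (commutatorElement_eq_one_iff_mul_comm.1 h3).symm
  have hKtop : ∀ x : H, x ∈ K := by
    refine mem_of_twist_top S.top fun x => hK2 ?_
    obtain ⟨k, hk⟩ := hp.out.odd_of_ne_two hp2
    have he : (σ ^ 2) ^ (k + 1) = σ := by
      rw [← pow_mul, show 2 * (k + 1) = p + 1 by omega, pow_succ, hσ, one_mul]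
    have h1 := pow_mem_tw (σ := σ ^ 2) (L := ⊤) (fun y _ => Subgroup.mem_top _)
      (Subgroup.mem_top x) (k + 1)
    rwa [he] at h1
  have hWc : W ≤ Subgroup.center H := fun w hw => Subgroup.mem_center_iff.2 fun g =>
    ((Subgroup.mem_centralizer_iff.1 (hKtop g)) w hw).symm
  haveI : IsMulCommutative W :=
    ⟨⟨fun a b => Subtype.ext (Subgroup.mem_center_iff.1 (hWc b.2) a)⟩⟩
  -- its twists give a subgroup without fixed points
  obtain ⟨w, hw, hwne⟩ := SetLike.not_le_iff_exists.1 hWf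
  have hN : tw σ W ≠ ⊥ := fun h => hwne (mem_fix.2
    (inv_mul_eq_one.1 (Subgroup.mem_bot.1 (h.le (mem_tw hw)))).symm)
  obtain ⟨d, n, hd, hn, hnf, hdn⟩ := S.quot (tw σ W) (hnormal ((tw_le hWi).trans hWc))
    (tw_inv hWi) hN m₀ hm₀f
  have hnW : n ∈ W := tw_le hWi hn
  have hker : tw σ W ≤ (orbitProd (restrict σ W hWi) p).ker.map W.subtype := by
    refine (Subgroup.closure_le _).2 ?_
    rintro _ ⟨y, hy, rfl⟩
    exact ⟨(⟨y, hy⟩ : W)⁻¹ * restrict σ W hWi ⟨y, hy⟩,
      orbitProd_twist (restrict_pow_eq_one hWi hσ) _, rfl⟩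
  obtain ⟨v, hv, hvn⟩ := hker hn
  have hvf : restrict σ W hWi v = v := Subtype.ext (by
    show σ (v : H) = v
    rw [show (v : H) = n from hvn, hnf])
  rw [SetLike.mem_coe, MonoidHom.mem_ker, orbitProd_of_fixed p hvf] at hv
  have hn1 : n = 1 := eq_one_of_pow_prime hcop (by
    rw [← hvn]
    simpa using congrArg Subtype.val hv)
  exact hbad (by rw [hdn, hn1, mul_one]; exact hd)

/-- The fixed points lie in the core. -/
theorem fix_le_core (hp2 : p ≠ 2) (hsolv : Group.IsSolvable H) [Nontrivial H] :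
    fix σ ≤ core σ := by
  obtain ⟨M, l, hl, hMn, hMi, hMne, hMab, hMexp, hld, hmin⟩ :=
    CfsgLib.ShultGross.exists_minimal_invariant hsolv σ
  haveI := hMn
  haveI : IsMulCommutative M := ⟨⟨fun a b => Subtype.ext (hMab a a.2 b b.2)⟩⟩
  have hlp : l ≠ p := fun h => S.cop (h ▸ hld.trans (Subgroup.card_subgroup_dvd_card M))
  have hM : ∀ m ∈ M, σ m = m → m ∈ core σ := by
    by_cases hMc : M ≤ Subgroup.center H
    · exact S.central hp2 hl hMexp hmin hMc
    · exact S.noncentral hp2 hl hMi hMexp hlp hmin hMc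
  intro c hc
  obtain ⟨d, m, hd, hm, hmf, rfl⟩ := S.quot M hMn hMi hMne c (mem_fix.1 hc)
  exact mul_mem hd (hM m hm hmf)

end Step

theorem fix_le_core_aux (hp2 : p ≠ 2) : ∀ (b : ℕ) {H : Type u} [Group H] [Finite H],
    Nat.card H ≤ b → Group.IsSolvable H → ∀ σ : MulAut H, σ ^ p = 1 → ¬ p ∣ Nat.card H →
    tw σ ⊤ = ⊤ → fix σ ≤ core σ := by
  intro b
  induction b with
  | zero => intro H _ _ hc; exact absurd hc (Nat.not_le.2 Nat.card_pos)
  | succ b ih =>
    intro H _ _ hc hsolv σ hσ hcop htop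
    haveI := hsolv
    rcases subsingleton_or_nontrivial H with hH | hH
    · exact fun c _ => by rw [Subsingleton.elim c 1]; exact one_mem _
    refine Step.fix_le_core (p := p) ⟨hσ, hcop, htop, ?_, ?_⟩ hp2 hsolv
    · intro L hL hLt c hc' hcf
      have hKi := tw_inv hL
      have hlt : Nat.card (tw σ L) < Nat.card H := by
        refine lt_of_le_of_lt (Nat.le_of_dvd Nat.card_pos (Subgroup.card_dvd_of_le (tw_le hL))) ?_
        exact lt_of_le_of_ne (Nat.le_of_dvd Nat.card_pos (Subgroup.card_subgroup_dvd_card L))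
          (fun he => hLt (Subgroup.eq_top_of_card_eq L he))
      have hKtop : tw (restrict σ (tw σ L) hKi) ⊤ = ⊤ := by
        rw [eq_top_iff]
        intro x _
        have h1 : (x : H) ∈ (tw (restrict σ (tw σ L) hKi) ⊤).map (tw σ L).subtype := by
          refine (show tw σ L ≤ (tw (restrict σ (tw σ L) hKi) ⊤).map (tw σ L).subtype from
            (Subgroup.closure_le _).2 ?_) x.2
          rintro _ ⟨y, hy, rfl⟩
          obtain ⟨c', t, hc', -, ht, rfl⟩ := exists_fixed_mul hσ hcop hL hy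
          refine ⟨_, mem_tw (σ := restrict σ (tw σ L) hKi)
            (Subgroup.mem_top (⟨t, ht⟩ : tw σ L)), ?_⟩
          show t⁻¹ * σ t = _
          rw [map_mul, hc']
          group
        obtain ⟨y, hy, hyx⟩ := h1
        rwa [← Subtype.ext (show (y : H) = x from hyx)]
      exact map_core_restrict hKi ⟨⟨c, hc'⟩, ih (H := tw σ L) (by omega) inferInstance _
        (restrict_pow_eq_one hKi hσ)
        (fun h => hcop (h.trans (Subgroup.card_subgroup_dvd_card _))) hKtop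
        (mem_fix.2 (Subtype.ext hcf)), rfl⟩
    · intro N hNn hNi hNne c hcf
      haveI := hNn
      have hlt : Nat.card (H ⧸ N) < Nat.card H := by
        have h2 : 2 ≤ Nat.card N := N.one_lt_card_iff_ne_bot.2 hNne
        have h3 : Nat.card (H ⧸ N) * Nat.card N = Nat.card H :=
          (Subgroup.card_eq_card_quotient_mul_card_subgroup N).symm
        have h4 : 0 < Nat.card (H ⧸ N) := Nat.card_pos
        nlinarith
      refine mem_core_mul hσ hcop hNi ?_ hcf
      exact ih (H := H ⧸ N) (by omega) inferInstance _ (quotAut_pow_eq_one hNi hσ)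
        (fun h => hcop (h.trans (Subgroup.card_quotient_dvd_card N))) (tw_quot_top hNi htop)

/-- The fixed points of `[H, σ]` are generated by those of the subgroups `[h, σ]`. -/
theorem fixed_twist_eq {H : Type u} [Group H] [Finite H] [Group.IsSolvable H] (hp2 : p ≠ 2)
    (hcop : ¬ p ∣ Nat.card H) (σ : MulAut H) (hσ : σ ^ p = 1) :
    Subgroup.closure {c : H | ∃ h : H, ∃ i : ℕ, c = h⁻¹ * (σ ^ i) h} ⊓ fix σ = core σ := by
  have htop : Inv σ (⊤ : Subgroup H) := fun x _ => Subgroup.mem_top _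
  have heq : Subgroup.closure {c : H | ∃ h : H, ∃ i : ℕ, c = h⁻¹ * (σ ^ i) h} = tw σ ⊤ := by
    refine le_antisymm ((Subgroup.closure_le _).2 fun c ⟨h, i, hc⟩ =>
      hc ▸ pow_mem_tw htop (Subgroup.mem_top h) i) ((Subgroup.closure_le _).2 fun c ⟨l, _, hc⟩ =>
      hc ▸ Subgroup.subset_closure ⟨l, 1, by rw [pow_one]⟩)
  rw [heq]
  refine le_antisymm ?_ (iSup_le fun h =>
    inf_le_inf_right _ (gen_le_tw htop (Subgroup.mem_top h)))
  rintro c ⟨hc, hcf⟩
  have hKi := tw_inv htop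
  have hKtop : tw (restrict σ (tw σ ⊤) hKi) ⊤ = ⊤ := by
    rw [eq_top_iff]
    intro x _
    have h1 : (x : H) ∈ (tw (restrict σ (tw σ ⊤) hKi) ⊤).map (tw σ ⊤).subtype := by
      refine (show tw σ ⊤ ≤ (tw (restrict σ (tw σ ⊤) hKi) ⊤).map (tw σ ⊤).subtype from
        (Subgroup.closure_le _).2 ?_) x.2
      rintro _ ⟨y, hy, rfl⟩
      obtain ⟨c', t, hc', -, ht, rfl⟩ := exists_fixed_mul hσ hcop htop hy
      refine ⟨_, mem_tw (σ := restrict σ (tw σ ⊤) hKi)
        (Subgroup.mem_top (⟨t, ht⟩ : tw σ ⊤)), ?_⟩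
      show t⁻¹ * σ t = _
      rw [map_mul, hc']
      group
    obtain ⟨y, hy, hyx⟩ := h1
    rwa [← Subtype.ext (show (y : H) = x from hyx)]
  exact map_core_restrict hKi ⟨⟨c, hc⟩, fix_le_core_aux hp2 _ (le_refl (Nat.card (tw σ ⊤)))
    inferInstance _ (restrict_pow_eq_one hKi hσ)
    (fun h => hcop (h.trans (Subgroup.card_subgroup_dvd_card _))) hKtop
    (mem_fix.2 (Subtype.ext (mem_fix.1 hcf))), rfl⟩

end CfsgLib.FixedTwist
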